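import Cfsg.Agent.H10.Walter.Comp.Setting
import Cfsg.Agent.S0252
import Cfsg.Agent.S0253
import Mathlib.Algebra.Field.ZMod

/-!
# The type R outcome of the components step

If `|A| = 8` and `N(S)` moves the involution centralising a largest component, then `S = A`, all
involutions are conjugate and the centraliser of an involution is `⟨a⟩ × E`, `L ⊴ E`, `C_E(L) = 1`.
-/

set_option autoImplicit false
set_option linter.unusedSectionVars false
set_option linter.style.haveILetI false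

namespace Cfsg.Agent.H10.Walter

open Subgroup Cfsg.Agent
open scoped commutatorElement

universe u

variable {G : Type u} [Group G] [Finite G]

local instance fact_two_typeR : Fact (Nat.Prime 2) := ⟨Nat.prime_two⟩

theorem even_four_isOddPSL {L : Type u} [Group L] [Finite L] (h : IsEvenPSL L) (P : Sylow 2 L)
    (h4 : Nat.card ↥(P : Subgroup L) = 4) : IsOddPSL L := by
  obtain ⟨F, _, _, m, hm, hF, ⟨e⟩⟩ := h
  have hc := Cfsg.Agent.Linear.card_PSL_two_mul (F := F)
  rw [← Nat.card_congr e.toEquiv, hF] at hc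
  have hodd : Odd (2 ^ m - 1) := Nat.Even.sub_odd Nat.one_le_two_pow
    (Nat.even_pow.2 ⟨even_two, by omega⟩) odd_one
  rw [show Nat.gcd 2 (2 ^ m - 1) = 1 from (Nat.coprime_two_left.2 hodd), one_mul] at hc
  have hdvd : 2 ^ m ∣ Nat.card L := Dvd.intro _ hc.symm
  have hle : 2 ^ m ≤ 4 := by
    rw [← h4, P.card_eq_multiplicity]
    exact Nat.pow_le_pow_right two_pos
      ((Nat.prime_two.pow_dvd_iff_le_factorization Nat.card_pos.ne').1 hdvd)
  have hm2 : m = 2 := by
    by_contra hne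
    have : 2 ^ 3 ≤ 2 ^ m := Nat.pow_le_pow_right two_pos (by omega)
    omega
  haveI : Fact (Nat.Prime 5) := ⟨by norm_num⟩
  obtain ⟨e4⟩ := Cfsg.Agent.S0252.result (F := F) (by rw [hF, hm2]; norm_num)
  obtain ⟨e5⟩ := Cfsg.Agent.S0253.result (F := ZMod 5) (ZMod.card 5)
  exact ⟨ZMod 5, inferInstance, inferInstance, by rw [ZMod.card], by rw [ZMod.card]; omega,
    ⟨e.trans (e4.trans e5.symm)⟩⟩

namespace CCtx

variable {S : Sylow 2 G} {A : Subgroup G} (h : CCtx S A) (hd : H88.Walter.ShapeData.{u})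
  {L : Subgroup G}
include h hd

/-- All involutions of `A` are conjugate to the involution centralising `L`. -/
theorem transitive_of_move {a : G} (ha : a ∈ A) (ha1 : a ≠ 1)
    (hL : Cfsg.IsComponentOf L (centralizer ({a} : Set G)))
    (hP : Nat.card ↥(A ⊓ L) = 4) (hkp : ∀ x ∈ kp A L, x = 1 ∨ x = a)
    (hodd : ∀ m ∈ normalizer (A : Set G), ∃ k : ℕ, Odd k ∧ ∀ x ∈ A, m ^ k * x * (m ^ k)⁻¹ = x)
    {n : G} (hn : n ∈ normalizer ((S : Subgroup G) : Set G)) (hna : n * a * n⁻¹ ≠ a) :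
    ∀ x ∈ A, x ≠ 1 → ∃ m ∈ normalizer ((S : Subgroup G) : Set G), m * a * m⁻¹ = x := by
  set N := normalizer ((S : Subgroup G) : Set G)
  obtain ⟨y, -, hyN, hyfix, hyP, hycyc⟩ := h.exists_cyc hd ha ha1 hL
  have hya : ∀ i : ℕ, y ^ i * a * (y ^ i)⁻¹ = a := by
    intro i
    induction i with
    | zero => simp
    | succ i ih =>
      rw [pow_succ', show y * y ^ i * a * (y * y ^ i)⁻¹ = y * (y ^ i * a * (y ^ i)⁻¹) * y⁻¹ by group,
        ih, hyfix a (h.self_mem_kp hd ha ha1 hL)]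
  have haP : a ∉ L := fun hc => ha1 (by
    have := show a ∈ (A ⊓ L) ⊓ kp A L from ⟨⟨ha, hc⟩, h.self_mem_kp hd ha ha1 hL⟩
    rwa [h.piece_inf_kp hd ha ha1 hL, mem_bot] at this)
  have hclass : ∀ x ∈ A, x ∈ A ⊓ L ∨ ∃ v ∈ A ⊓ L, x = a * v := by
    intro x hx
    obtain ⟨v, hv, q, hq, rfl⟩ := h.exists_decomp hd ha ha1 hL (h.le_S hx)
    have hqA : q ∈ A := by
      have := A.mul_mem (A.inv_mem hv.1) hx
      rwa [inv_mul_cancel_left] at this
    rcases hkp q ⟨hqA, hq.2⟩ with e | e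
    · rw [e, mul_one]; exact Or.inl hv
    · rw [e]; exact Or.inr ⟨v, hv, (h.comm (h.le_S hv.1) (h.le_S ha)).eq⟩
  let O : G → Prop := fun x => ∃ m ∈ N, m * a * m⁻¹ = x
  have hOmul : ∀ {x m : G}, O x → m ∈ N → O (m * x * m⁻¹) := by
    rintro x m ⟨m', hm', rfl⟩ hm
    exact ⟨m * m', mul_mem hm hm', by group⟩
  have hOA : ∀ {x : G}, O x → x ∈ A ∧ x ≠ 1 := by
    rintro x ⟨m, hm, rfl⟩
    exact ⟨h.conj_mem hm ha, fun e => ha1 (conj_eq_one_iff.1 e)⟩
  -- one element of a coset gives the coset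
  have hPall : ∀ p ∈ A ⊓ L, p ≠ 1 → O p → ∀ z ∈ A ⊓ L, z ≠ 1 → O z := by
    intro p hp hp1 hO z hz hz1
    obtain ⟨i, hi⟩ := hycyc p hp z hz hp1 hz1
    exact hi ▸ hOmul hO (pow_mem hyN i)
  have hQall : ∀ p ∈ A ⊓ L, p ≠ 1 → O (a * p) → ∀ z ∈ A ⊓ L, z ≠ 1 → O (a * z) := by
    intro p hp hp1 hO z hz hz1
    obtain ⟨i, hi⟩ := hycyc p hp z hz hp1 hz1
    have := hOmul hO (pow_mem hyN i)
    rwa [show y ^ i * (a * p) * (y ^ i)⁻¹ = y ^ i * a * (y ^ i)⁻¹ * (y ^ i * p * (y ^ i)⁻¹) by group,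
      hya, hi] at this
  -- a third element
  have hthird : ∀ v ∈ A ⊓ L, ∃ q ∈ A ⊓ L, q ≠ 1 ∧ q ≠ v := by
    intro v hv
    by_contra hc
    push Not at hc
    have hsub : ((A ⊓ L : Subgroup G) : Set G) ⊆ {1, v} := fun u hu => by
      by_cases hu1 : u = 1
      · exact Or.inl hu1
      · exact Or.inr (hc u hu hu1)
    have := (Nat.card_mono (Set.toFinite _) hsub).trans (Set.ncard_insert_le _ _)
    rw [Set.ncard_singleton] at this
    have : Nat.card ↥(A ⊓ L) ≤ 2 := this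
    omega
  -- the orbit meets both cosets
  have hboth : (∃ p ∈ A ⊓ L, p ≠ 1 ∧ O p) ∧ ∃ p ∈ A ⊓ L, p ≠ 1 ∧ O (a * p) := by
    have hstep1 : (∃ p ∈ A ⊓ L, p ≠ 1 ∧ O p) → ∃ p ∈ A ⊓ L, p ≠ 1 ∧ O (a * p) := by
      rintro ⟨p, hp, hp1, hOp⟩
      obtain ⟨n0, hn0, e0⟩ := id hOp
      by_contra hc
      push Not at hc
      have hOcases : ∀ {x : G}, O x → x = a ∨ x ∈ A ⊓ L := by
        intro x hx
        rcases hclass x (hOA hx).1 with h' | ⟨v, hv, rfl⟩
        · exact Or.inr h'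
        · by_cases hv1 : v = 1
          · exact Or.inl (by rw [hv1, mul_one])
          · exact absurd hx (hc v hv hv1)
      obtain ⟨p', hp', hp'n⟩ : ∃ p' ∈ A ⊓ L, n0 * p' * n0⁻¹ ∉ A ⊓ L := by
        by_contra hc'
        push Not at hc'
        let g : ↥(A ⊓ L) → ↥(A ⊓ L) := fun z => ⟨n0 * z * n0⁻¹, hc' z z.2⟩
        have hg : Function.Injective g := fun z w e =>
          Subtype.ext (mul_left_cancel (mul_right_cancel (congrArg Subtype.val e)))
        obtain ⟨z, hz⟩ := Finite.injective_iff_surjective.1 hg ⟨p, hp⟩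
        have hz' : (z : G) = a :=
          mul_left_cancel (mul_right_cancel ((congrArg Subtype.val hz).trans e0.symm))
        exact haP (hz' ▸ z.2.2)
      have hp'1 : p' ≠ 1 := fun e => hp'n (by simp [e])
      have himg := hOcases (hOmul (hPall p hp hp1 hOp p' hp' hp'1) hn0)
      have ep' : n0 * p' * n0⁻¹ = a := himg.resolve_right hp'n
      obtain ⟨q, hq, hq1, hqp⟩ := hthird p' hp'
      have eq' : n0 * q * n0⁻¹ ∈ A ⊓ L :=
        (hOcases (hOmul (hPall p hp hp1 hOp q hq hq1) hn0)).resolve_left fun e =>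
          hqp (mul_left_cancel (mul_right_cancel (e.trans ep'.symm)))
      have hpq1 : p' * q ≠ 1 := fun e => hqp (by
        rw [← inv_eq_of_mul_eq_one_right e, h.inv_eq hp'.1])
      have h3 := hOmul (hPall p hp hp1 hOp _ (mul_mem hp' hq) hpq1) hn0
      rw [show n0 * (p' * q) * n0⁻¹ = n0 * p' * n0⁻¹ * (n0 * q * n0⁻¹) by group, ep'] at h3
      rcases hOcases h3 with e | e
      · exact hq1 (conj_eq_one_iff.1 (mul_eq_left.1 e))
      · exact haP (by
          have := mul_mem e (inv_mem eq')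
          rw [mul_inv_cancel_right] at this
          exact this.2)
    have hstep2 : (∃ p ∈ A ⊓ L, p ≠ 1 ∧ O (a * p)) → ∃ p ∈ A ⊓ L, p ≠ 1 ∧ O p := by
      rintro ⟨p, hp, hp1, hOp⟩
      obtain ⟨n0, hn0, e0⟩ := id hOp
      by_contra hc
      push Not at hc
      have hinvP : ∀ m ∈ N, ∀ v ∈ A ⊓ L, v ≠ 1 → m * v * m⁻¹ ∈ A ⊓ L := by
        intro m hm v hv hv1
        rcases hclass _ (h.conj_mem hm hv.1) with h' | ⟨w, hw, e⟩
        · exact h'
        · exfalso
          have hO : O (m * v * m⁻¹) := by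
            rw [e]
            by_cases hw1 : w = 1
            · exact ⟨1, one_mem _, by simp [hw1]⟩
            · exact hQall p hp hp1 hOp w hw hw1
          exact hc v hv hv1 (by simpa [mul_assoc] using hOmul hO (inv_mem hm))
      obtain ⟨v, hv, hv1⟩ := (A ⊓ L).bot_or_exists_ne_one.resolve_left
        (h.piece_ne_bot hd ha ha1 hL)
      obtain ⟨i, hi⟩ := hycyc _ (hinvP n0 hn0 v hv hv1) v hv
        (fun e => hv1 (conj_eq_one_iff.1 e)) hv1
      set m := y ^ i * n0 with hm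
      have hmN : m ∈ N := mul_mem (pow_mem hyN i) hn0
      have hmv : m * v * m⁻¹ = v := by
        rw [hm, show y ^ i * n0 * v * (y ^ i * n0)⁻¹ = y ^ i * (n0 * v * n0⁻¹) * (y ^ i)⁻¹ by group,
          hi]
      set p' := y ^ i * p * (y ^ i)⁻¹
      have hp'1 : p' ≠ 1 := fun e => hp1 (conj_eq_one_iff.1 e)
      have hma : m * a * m⁻¹ = a * p' := by
        rw [hm, show y ^ i * n0 * a * (y ^ i * n0)⁻¹ = y ^ i * (n0 * a * n0⁻¹) * (y ^ i)⁻¹ by group,
          e0, show y ^ i * (a * p) * (y ^ i)⁻¹ = y ^ i * a * (y ^ i)⁻¹ * p' by simp [p', mul_assoc], hya]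
      obtain ⟨k, ⟨j, rfl⟩, hk⟩ := hodd m (h.normalizer_le hmN)
      -- squaring fixes implies fixing
      have hfix2 : ∀ x ∈ A, m * (m * x * m⁻¹) * m⁻¹ = x → m * x * m⁻¹ = x := by
        intro x hx e
        have hev : ∀ i : ℕ, m ^ (2 * i) * x * (m ^ (2 * i))⁻¹ = x := by
          intro i
          induction i with
          | zero => simp
          | succ i ih =>
            rw [show 2 * (i + 1) = 2 * i + 1 + 1 by ring, pow_succ', pow_succ',
              show m * (m * m ^ (2 * i)) * x * (m * (m * m ^ (2 * i)))⁻¹ =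
                m * (m * (m ^ (2 * i) * x * (m ^ (2 * i))⁻¹) * m⁻¹) * m⁻¹ by group, ih, e]
        have := hk x hx
        rwa [pow_succ', show m * m ^ (2 * j) * x * (m * m ^ (2 * j))⁻¹ =
          m * (m ^ (2 * j) * x * (m ^ (2 * j))⁻¹) * m⁻¹ by group, hev] at this
      -- `m` centralises the piece
      have hmP : ∀ q ∈ A ⊓ L, m * q * m⁻¹ = q := by
        intro q hq
        by_cases hq1 : q = 1
        · simp [hq1]
        by_cases hqv : q = v
        · rw [hqv, hmv]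
        refine hfix2 q hq.1 ?_
        have hP4 : ∀ z ∈ A ⊓ L, z = 1 ∨ z = v ∨ z = q ∨ z = v * q := by
          intro z hz
          by_contra hne
          push Not at hne
          have hvq : v * q ≠ 1 := fun e => hqv (by
            rw [← inv_eq_of_mul_eq_one_right e, h.inv_eq hv.1])
          let F : Fin 5 → ↥(A ⊓ L) := ![1, ⟨v, hv⟩, ⟨q, hq⟩, ⟨v * q, mul_mem hv hq⟩, ⟨z, hz⟩]
          have hF : Function.Injective F := by
            intro i i' e
            fin_cases i <;> fin_cases i' <;>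
              simp [F, Subtype.ext_iff, hne.1, hne.2.1, hne.2.2.1, hne.2.2.2, Ne.symm hne.1,
                Ne.symm hne.2.1, Ne.symm hne.2.2.1, Ne.symm hne.2.2.2, hv1, Ne.symm hv1, hq1,
                Ne.symm hq1, hqv, Ne.symm hqv, hvq, Ne.symm hvq] at e ⊢
          have := Nat.card_le_card_of_injective F hF
          rw [Nat.card_fin, hP] at this
          omega
        rcases hP4 _ (hinvP m hmN q hq hq1) with e | e | e | e
        · exact absurd (conj_eq_one_iff.1 e) hq1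
        · exact absurd (mul_left_cancel (mul_right_cancel (e.trans hmv.symm))) hqv
        · rw [e, e]
        · rw [e, show m * (v * q) * m⁻¹ = m * v * m⁻¹ * (m * q * m⁻¹) by group, hmv, e, ← mul_assoc,
            h.sq hv.1, one_mul]
      have hp'A : p' ∈ A ⊓ L := hinvP _ (pow_mem hyN i) p hp hp1
      have := hfix2 a ha (by
        rw [hma, show m * (a * p') * m⁻¹ = m * a * m⁻¹ * (m * p' * m⁻¹) by group, hma,
          hmP p' hp'A, mul_assoc, h.sq hp'A.1, mul_one])
      rw [hma, mul_eq_left] at this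
      exact hp'1 this
    rcases hclass _ (h.conj_mem hn ha) with h' | ⟨v, hv, e⟩
    · have h1 : ∃ p ∈ A ⊓ L, p ≠ 1 ∧ O p :=
        ⟨_, h', fun e => ha1 (conj_eq_one_iff.1 e), n, hn, rfl⟩
      exact ⟨h1, hstep1 h1⟩
    · have h2 : ∃ p ∈ A ⊓ L, p ≠ 1 ∧ O (a * p) :=
        ⟨v, hv, fun e' => hna (by rw [e, e', mul_one]), n, hn, e⟩
      exact ⟨hstep2 h2, h2⟩
  obtain ⟨⟨p, hp, hp1, hOp⟩, q, hq, hq1, hOq⟩ := hboth
  intro x hx hx1
  rcases hclass x hx with h' | ⟨v, hv, rfl⟩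
  · exact hPall p hp hp1 hOp x h' hx1
  · by_cases hv1 : v = 1
    · exact ⟨1, one_mem _, by simp [hv1]⟩
    · exact hQall q hq hq1 hOq v hv hv1

/-- The type R conclusion. -/
theorem typeR_of_move (h8 : Nat.card A = 8) (hL : TopComp A L) {n : G}
    (hn : n ∈ normalizer ((S : Subgroup G) : Set G))
    (hr : ¬ Rel L (L.map (MulAut.conj n).toMonoidHom))
    (hodd : ∀ m ∈ normalizer (A : Set G), ∃ k : ℕ, Odd k ∧ ∀ x ∈ A, m ^ k * x * (m ^ k)⁻¹ = x) :
    IsTypeR G := by
  obtain ⟨a, ha, ha1, hLa⟩ := hL.1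
  set C := centralizer ({a} : Set G)
  have hP4 := h.four hd ha ha1 hLa
  have hmul := h.card_mul hd ha ha1 hLa
  rw [h8] at hmul
  have hK2 : 2 ≤ Nat.card ↥(kp A L) := by
    haveI : Nontrivial ↥(kp A L) :=
      ⟨⟨a, h.self_mem_kp hd ha ha1 hLa⟩, 1, fun e => ha1 (congrArg Subtype.val e)⟩
    exact Finite.one_lt_card
  have hP : Nat.card ↥(A ⊓ L) = 4 := by nlinarith
  have hK : Nat.card ↥(kp A L) = 2 := by rw [hP] at hmul; omega
  have hkp : ∀ x ∈ kp A L, x = 1 ∨ x = a := by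
    intro x hx
    by_contra hne
    push Not at hne
    let F : Fin 3 → ↥(kp A L) := ![1, ⟨a, h.self_mem_kp hd ha ha1 hLa⟩, ⟨x, hx⟩]
    have hF : Function.Injective F := by
      intro i i' e
      fin_cases i <;> fin_cases i' <;>
        simp [F, Subtype.ext_iff, ha1, Ne.symm ha1, hne.1, hne.2, Ne.symm hne.1,
          Ne.symm hne.2] at e ⊢
    have := Nat.card_le_card_of_injective F hF
    rw [Nat.card_fin, hK] at this
    omega
  have hna : n * a * n⁻¹ ≠ a := fun e => by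
    have h1 := h.conj_component ha ha1 hLa (n := n)
    rw [e] at h1
    exact hr (h.rel_of_common hd hL (h.top_conj hL hn) (h.self_mem_kp hd ha ha1 hLa)
      (h.self_mem_kp hd ha ha1 h1) ha1)
  have htr := h.transitive_of_move hd ha ha1 hLa hP hkp hodd hn hna
  -- `S = A`
  have hSA : ∀ s ∈ (S : Subgroup G), s ∈ A := by
    intro s hs
    by_contra hsA
    obtain ⟨k, hk⟩ := S.isPGroup' ⟨s, hs⟩
    have hk' : s ^ 2 ^ k = 1 := congrArg Subtype.val hk
    obtain ⟨e, -, he⟩ := (Nat.dvd_prime_pow Nat.prime_two).1 (orderOf_dvd_of_pow_eq_one hk')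
    have he2 : 2 ≤ e := by
      by_contra hc
      refine hsA ((h.mem_iff s).2 ⟨hs, ?_⟩)
      rw [← pow_two]
      exact orderOf_dvd_iff_pow_eq_one.1 (he ▸ pow_dvd_pow 2 (by omega : e ≤ 1))
    set r := s ^ 2 ^ (e - 2)
    have hr4 : orderOf r = 4 := by
      rw [orderOf_pow' s (pow_ne_zero _ (by norm_num)), he,
        Nat.gcd_eq_right (pow_dvd_pow 2 (Nat.sub_le e 2)), Nat.pow_div (Nat.sub_le e 2) two_pos,
        show e - (e - 2) = 2 by omega]
      norm_num
    have hrS : r ∈ (S : Subgroup G) := pow_mem hs _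
    have hr2A : r * r ∈ A := (h.mem_iff _).2 ⟨mul_mem hrS hrS, by
      rw [show r * r * (r * r) = r ^ 4 by simp [pow_succ, mul_assoc], ← hr4, pow_orderOf_eq_one]⟩
    have hr21 : r * r ≠ 1 := fun e => by
      have := orderOf_dvd_of_pow_eq_one (x := r) (n := 2) (by rw [pow_two, e])
      rw [hr4] at this
      omega
    obtain ⟨v, hv, hv1⟩ := (A ⊓ L).bot_or_exists_ne_one.resolve_left (h.piece_ne_bot hd ha ha1 hLa)
    -- the squares lie in `C_A(L)`
    have hsquare : ∀ z ∈ (S : Subgroup G), z * z ∈ A → z * z ∈ kp A L := by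
      intro z hz hzA
      obtain ⟨w, hw, q, hq, rfl⟩ := h.exists_decomp hd ha ha1 hLa hz
      refine ⟨hzA, ?_⟩
      rw [show w * q * (w * q) = w * (q * w) * q by group, (h.comm hq.1 (h.le_S hw.1)).eq,
        show w * (w * q) * q = w * w * (q * q) by group, h.sq hw.1, one_mul]
      exact mul_mem hq.2 hq.2
    have hra : r * r = a := (hkp _ (hsquare r hrS hr2A)).resolve_left hr21
    obtain ⟨m, hm, e'⟩ := htr v hv.1 hv1
    have e2 : m * r * m⁻¹ * (m * r * m⁻¹) = v := by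
      rw [← e', ← hra]; group
    have := hsquare (m * r * m⁻¹) ((mem_normalizer_iff.1 hm r).1 hrS) (e2 ▸ hv.1)
    rw [e2] at this
    have h0 := show v ∈ (A ⊓ L) ⊓ kp A L from ⟨hv, this⟩
    rw [h.piece_inf_kp hd ha ha1 hLa, mem_bot] at h0
    exact hv1 h0
  have hS8 : Nat.card ↥(S : Subgroup G) = 8 := by
    rw [← le_antisymm h.le_S hSA, h8]
  refine ⟨fun T => by rw [Nat.card_congr (T.equiv S).toEquiv, hS8], ?_, ?_⟩
  · -- one class
    have key : ∀ t : G, orderOf t = 2 → IsConj a t := by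
      intro t ht
      obtain ⟨g, hg⟩ := H39.exists_conj_le_sylow
        (IsPGroup.of_card (n := 1) (by rw [Nat.card_zpowers, ht, pow_one]) :
          IsPGroup 2 ↥(zpowers t)) S
      have hgt : g * t * g⁻¹ ∈ A := hSA _ (hg t (mem_zpowers t))
      obtain ⟨m, -, e⟩ := htr _ hgt (fun e => by
        rw [conj_eq_one_iff] at e
        rw [e, orderOf_one] at ht
        omega)
      exact (isConj_iff.2 ⟨m, e⟩ : IsConj a _).trans
        ((isConj_iff.2 ⟨g, rfl⟩ : IsConj t _).symm)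
    exact fun x y hx hy => (key x hx).symm.trans (key y hy)
  -- the centraliser of `a`
  have hO := h.core_bot ha ha1
  have hSC := h.S_le_cent ha
  have huniq : ∀ J, Cfsg.IsComponentOf J C → J = L := by
    intro J hJ
    by_contra hne
    have hle : A ⊓ J ≤ kp A L := h.piece_le_kp (compOf_commute hLa hJ (Ne.symm hne))
    have := (h.four hd ha ha1 hJ).trans (card_le_of_le hle)
    omega
  have hCN : C ≤ normalizer (L : Set G) := by
    intro c hc
    refine Components.mem_normalizer_of_map_conj_eq (huniq _ ?_)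
    have h1 := h.conj_component ha ha1 hLa (n := c)
    rwa [show c * a * c⁻¹ = a by
      rw [mem_centralizer_singleton_iff.1 hc, mul_inv_cancel_right]] at h1
  set S' : Subgroup ↥C := (S : Subgroup G).subgroupOf C
  haveI : IsMulCommutative ↥S' := ⟨⟨fun x y => Subtype.ext (Subtype.ext (h.comm x.2 y.2).eq)⟩⟩
  letI : CommGroup ↥S' :=
    { (inferInstance : Group ↥S') with mul_comm := IsMulCommutative.is_comm.comm }
  set f : ↥C →* ↥S' := MonoidHom.transfer (MonoidHom.id ↥S')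
  set E' : Subgroup ↥C := ((L.subgroupOf C).subgroupOf S').comap f
  have hE'mem : ∀ c : ↥C, c ∈ E' ↔ (((f c : ↥S') : ↥C) : G) ∈ L := fun c => Iff.rfl
  set ac : ↥C := ⟨a, hSC (h.le_S ha)⟩
  have hfa : ((f ac : ↥S') : ↥C) = ac := by
    have hval := MonoidHom.transfer_eq_pow (ϕ := MonoidHom.id ↥S') ac fun k x _ => by
      refine Subtype.ext ?_
      push_cast
      rw [mul_assoc, (show Commute (a ^ k) (x : G) from
        Commute.pow_left (mem_centralizer_singleton_iff.1 x.2).symm k).eq,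
        inv_mul_cancel_left]
    rw [show f ac = _ from hval]
    obtain ⟨j, hj⟩ : Odd S'.index := Odd.of_dvd_nat (Nat.odd_iff.2
      (Nat.two_dvd_ne_zero.1 S.not_dvd_index)) (relIndex_dvd_index_of_le hSC)
    show ac ^ S'.index = ac
    rw [hj, pow_succ, pow_mul, show ac ^ 2 = 1 from
      Subtype.ext (by rw [pow_two]; exact h.sq ha), one_pow, one_mul]
  have hfL : L.subgroupOf C ≤ f.ker := by
    have hperf : ⁅L.subgroupOf C, L.subgroupOf C⁆ = L.subgroupOf C :=
      Components.component_perfect hLa.2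
    rw [← hperf, commutator_le]
    intro x _ y _
    rw [MonoidHom.mem_ker, map_commutatorElement, commutatorElement_eq_one_iff_mul_comm]
    exact mul_comm _ _
  have haE : a ∉ L := fun hc => ha1 (by
    have := show a ∈ (A ⊓ L) ⊓ kp A L from ⟨⟨ha, hc⟩, h.self_mem_kp hd ha ha1 hLa⟩
    rwa [h.piece_inf_kp hd ha ha1 hLa, mem_bot] at this)
  have haE' : ac ∉ E' := fun hc => haE (by rwa [hE'mem, hfa] at hc)
  set E := E'.map C.subtype
  have hEmem : ∀ x : G, x ∈ E ↔ ∃ hx : x ∈ C, (⟨x, hx⟩ : ↥C) ∈ E' := fun x =>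
    ⟨fun ⟨c, hc, e⟩ => e ▸ ⟨c.2, hc⟩, fun ⟨hx, hm⟩ => ⟨⟨x, hx⟩, hm, rfl⟩⟩
  have hLE : L ≤ E := fun x hx => (hEmem x).2 ⟨hLa.1 hx, by
    rw [hE'mem, show f ⟨x, hLa.1 hx⟩ = 1 from hfL hx]
    exact one_mem L⟩
  refine ⟨a, E, L, h.orderOf_eq ha ha1,
    ⟨zpowers_le.2 (mem_centralizer_singleton_iff.2 rfl), map_subtype_le _, ?_, ?_, ?_⟩,
    hLE, normal_subgroupOf_of_le_normalizer ((map_subtype_le E').trans hCN), ?_, ?_⟩
  · intro x hx b hb
    obtain ⟨i, rfl⟩ := mem_zpowers_iff.1 hx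
    exact ((show Commute a b from
      (mem_centralizer_singleton_iff.1 (map_subtype_le _ hb)).symm).zpow_left i).eq
  · refine (eq_bot_iff_forall _).2 fun x hx => ?_
    obtain ⟨i, rfl⟩ := mem_zpowers_iff.1 hx.1
    rcases Int.even_or_odd i with ⟨j, rfl⟩ | ⟨j, rfl⟩
    · rw [← two_mul, zpow_mul, zpow_two, h.sq ha, one_zpow]
    · exfalso
      obtain ⟨hxC, hxE⟩ := (hEmem _).1 hx.2
      refine haE' ?_
      rwa [show (⟨a ^ (2 * j + 1), hxC⟩ : ↥C) = ac from Subtype.ext (by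
        show a ^ (2 * j + 1) = a
        rw [zpow_add, zpow_mul, zpow_two, h.sq ha, one_zpow, one_mul, zpow_one])] at hxE
  · refine le_antisymm (sup_le (zpowers_le.2 (mem_centralizer_singleton_iff.2 rfl))
      (map_subtype_le _)) fun c hc => ?_
    set s := (((f ⟨c, hc⟩ : ↥S') : ↥C) : G) with hs
    have hsS : s ∈ (S : Subgroup G) := (f ⟨c, hc⟩).2
    obtain ⟨v, hv, q, hq, e⟩ := h.exists_decomp hd ha ha1 hLa hsS
    rcases hkp q ⟨hSA q hq.1, hq.2⟩ with rfl | rfl
    · refine mem_sup_right ((hEmem c).2 ⟨hc, ?_⟩)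
      rw [hE'mem, ← hs, ← e, mul_one]
      exact hv.2
    · have hmem : q * c ∈ E := (hEmem _).2 ⟨mul_mem (hSC (h.le_S ha)) hc, by
        rw [hE'mem]
        have : f (⟨q * c, mul_mem (hSC (h.le_S ha)) hc⟩ : ↥C) = f ac * f ⟨c, hc⟩ := by
          rw [← map_mul]; rfl
        rw [this]
        push_cast
        rw [hfa, ← hs, ← e]
        show q * (v * q) ∈ L
        rw [← mul_assoc, (h.comm (h.le_S ha) (h.le_S hv.1)).eq, mul_assoc, h.sq ha, mul_one]
        exact hv.2⟩
      have := mul_mem_sup (mem_zpowers q) hmem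
      rwa [← mul_assoc, h.sq ha, one_mul] at this
  · -- `L` is `PSL₂(q)`
    obtain ⟨P, hPS⟩ := compOf_sylow hLa S hSC
    have hcardP : Nat.card ↥(P : Subgroup ↥L) = 4 := by
      rw [hPS, ← hP, ← le_antisymm h.le_S hSA, ← inf_subgroupOf_right]
      exact Nat.card_congr (subgroupOfEquivOfLe inf_le_right).toEquiv
    rcases h.shape hd ha ha1 hLa with h' | h' | h'
    · exact even_four_isOddPSL h' P hcardP
    · exact h'
    · have := h'.1 P
      omega
  · -- `C_E(L) = 1`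
    set N := E ⊓ centralizer (L : Set G)
    have hNC : N ≤ C := inf_le_left.trans (map_subtype_le _)
    haveI hE'n : E'.Normal := by
      haveI : ((L.subgroupOf C).subgroupOf S').Normal := inferInstance
      exact Normal.comap inferInstance f
    have hnorm : ∀ g ∈ C, ∀ x ∈ N, g * x * g⁻¹ ∈ N := by
      intro g hg x hx
      refine ⟨?_, mem_centralizer_iff.2 fun l hl => ?_⟩
      · obtain ⟨hxC, hxE⟩ := (hEmem x).1 hx.1
        exact (hEmem _).2 ⟨mul_mem (mul_mem hg hxC) (inv_mem hg), hE'n.conj_mem _ hxE ⟨g, hg⟩⟩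
      · have := mem_centralizer_iff.1 hx.2 _ ((mem_normalizer_iff''.1 (hCN hg) l).1 hl)
        calc l * (g * x * g⁻¹) = g * ((g⁻¹ * l * g) * x) * g⁻¹ := by group
          _ = g * (x * (g⁻¹ * l * g)) * g⁻¹ := by rw [this]
          _ = g * x * g⁻¹ * l := by group
    haveI : (N.subgroupOf C).Normal :=
      ⟨fun x hx g => mem_subgroupOf.2 (hnorm g g.2 x hx)⟩
    have hoddN : Odd (Nat.card ↥(N.subgroupOf C)) := by
      by_contra hev
      obtain ⟨z, hz⟩ := exists_prime_orderOf_dvd_card' (G := ↥(N.subgroupOf C)) 2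
        (Nat.not_odd_iff_even.1 hev).two_dvd
      have hz' : orderOf (z : ↥C) = 2 := by rw [Subgroup.orderOf_coe, hz]
      obtain ⟨g, hg⟩ := H39.exists_conj_le_sylow
        (IsPGroup.of_card (n := 1) (by rw [Nat.card_zpowers, hz', pow_one]) :
          IsPGroup 2 ↥(zpowers (z : ↥C))) (S.subtype hSC)
      have hzN : ((g * z * g⁻¹ : ↥C) : G) ∈ N := hnorm _ g.2 _ z.2
      have hzA : ((g * z * g⁻¹ : ↥C) : G) ∈ A := hSA _ (hg _ (mem_zpowers _))
      rcases hkp _ ⟨hzA, hzN.2⟩ with e | e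
      · rw [Subgroup.coe_mul, Subgroup.coe_mul, Subgroup.coe_inv, conj_eq_one_iff] at e
        rw [show (z : ↥C) = 1 from Subtype.ext e, orderOf_one] at hz'
        omega
      · obtain ⟨hx', hE⟩ := (hEmem _).1 hzN.1
        have e' : (⟨((g * z * g⁻¹ : ↥C) : G), hx'⟩ : ↥C) = ac := Subtype.ext e
        exact haE' (e' ▸ hE)
    have hbot := Cores.le_oddCore hoddN
    refine (eq_bot_iff_forall _).2 fun x hx => ?_
    have h1 := hbot (show (⟨x, hNC hx⟩ : ↥C) ∈ N.subgroupOf C from hx)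
    rw [show Cfsg.oddCore ↥C = ⊥ from hO, mem_bot] at h1
    exact congrArg Subtype.val h1

end CCtx

end Cfsg.Agent.H10.Walter
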