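import Cfsg.Agent.H10.Walter.Comp.Move
import Cfsg.Agent.H10.Walter.Comp.TypeR
import Cfsg.Agent.H1.Walter.GoodSE

/-!
# The components step

With trivial cores either `N(S)` moves a largest component freely, giving type R, or the stabiliser
`M` of a class of pairwise commuting largest components contains `N(S)` and the centralisers of the
involutions centralising one of them, which is impossible.
-/

set_option autoImplicit false
set_option linter.unusedSectionVars false
set_option linter.style.haveILetI false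

namespace Cfsg.Agent.H10.Walter

open Subgroup Cfsg.Agent
open scoped commutatorElement

universe u

variable {G : Type u} [Group G] [Finite G]

local instance fact_two_final : Fact (Nat.Prime 2) := ⟨Nat.prime_two⟩

theorem pieceFacts_of_shapeData (hd : H88.Walter.ShapeData.{u}) : H1.Walter.PieceFacts.{u} := by
  intro L _ _ hs hn ha hsh P
  have hg := hd L hs hn ha hsh P
  refine ⟨hg.sq, hg.four, fun x hx y hy hx1 hy1 => ?_⟩
  obtain ⟨n, hn, hcyc⟩ := hg.cyc
  obtain ⟨k, hk⟩ := hcyc x hx y hy hx1 hy1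
  exact ⟨n ^ k, pow_mem hn k, hk⟩

/-- The conjugate of a subgroup by `g`. -/
abbrev cj (g : G) (L : Subgroup G) : Subgroup G :=
  L.map (MulAut.conj g).toMonoidHom

theorem cj_cj (g g' : G) (L : Subgroup G) : cj g (cj g' L) = cj (g * g') L := by
  show Subgroup.map _ (Subgroup.map _ L) = Subgroup.map _ L
  rw [Subgroup.map_map]
  congr 1
  ext x
  simp [mul_assoc]

theorem cj_one (L : Subgroup G) : cj (1 : G) L = L := by
  ext x
  simp [cj]

theorem cj_eq_of_mem_normalizer {g : G} {L : Subgroup G} (hg : g ∈ normalizer (L : Set G)) :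
    cj g L = L := by
  ext x
  constructor
  · rintro ⟨y, hy, rfl⟩
    exact (mem_normalizer_iff.1 hg y).1 hy
  · intro hx
    exact ⟨g⁻¹ * x * g, (mem_normalizer_iff''.1 hg x).1 hx, by
      show g * (g⁻¹ * x * g) * g⁻¹ = x
      group⟩

theorem Rel.cj {g : G} {L L' : Subgroup G} (h : Rel L L') : Rel (cj g L) (cj g L') :=
  h.imp (fun e => by rw [e]) fun e => by
    show ⁅Subgroup.map _ L, Subgroup.map _ L'⁆ = ⊥
    rw [← map_commutator, e, Subgroup.map_bot]

theorem Rel.mem_normalizer {L L' : Subgroup G} (h : Rel L' L) : L ≤ normalizer (L' : Set G) := by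
  rcases h with e | e
  · exact e ▸ le_normalizer
  · exact Components.le_normalizer_of_commutator_eq_bot (by rwa [commutator_comm])

/-- The stabiliser of a set of subgroups under conjugation. -/
def stab (D : Set (Subgroup G)) : Subgroup G where
  carrier := {g | (∀ L ∈ D, cj g L ∈ D) ∧ ∀ L ∈ D, cj g⁻¹ L ∈ D}
  one_mem' := ⟨fun L hL => by rwa [cj_one], fun L hL => by rwa [inv_one, cj_one]⟩
  mul_mem' := fun {g g'} hg hg' => ⟨fun L hL => cj_cj g g' L ▸ hg.1 _ (hg'.1 L hL),
    fun L hL => by rw [mul_inv_rev, ← cj_cj]; exact hg'.2 _ (hg.2 L hL)⟩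
  inv_mem' := fun {g} hg => ⟨hg.2, fun L hL => by rw [inv_inv]; exact hg.1 L hL⟩

theorem le_stab {D : Set (Subgroup G)} {H : Subgroup G} (h : ∀ g ∈ H, ∀ L ∈ D, cj g L ∈ D) :
    H ≤ stab D :=
  fun g hg => ⟨h g hg, h g⁻¹ (inv_mem hg)⟩

namespace CCtx

variable {S : Sylow 2 G} {A : Subgroup G} (h : CCtx S A) (hd : H88.Walter.ShapeData.{u})
include h hd

/-- `N(S)` cannot keep the classes of commuting largest components. -/
theorem false_of_stable {L₀ : Subgroup G} (hL₀ : TopComp A L₀)
    (hst : ∀ L, TopComp A L → ∀ n ∈ normalizer ((S : Subgroup G) : Set G), Rel L (cj n L)) :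
    False := by
  classical
  haveI := h.cfg.simple
  set N := normalizer ((S : Subgroup G) : Set G)
  set D : Set (Subgroup G) := {L | TopComp A L ∧ Rel L₀ L} with hD
  have hD0 : L₀ ∈ D := ⟨hL₀, Or.inl rfl⟩
  have hrel : ∀ {L L'}, L ∈ D → L' ∈ D → Rel L L' := fun hL hL' =>
    h.rel_trans hd hL.1 hL₀ hL'.1 hL.2.symm hL'.2
  have hN : N ≤ stab D := le_stab fun n hn L hL =>
    ⟨h.top_conj hL.1 hn, h.rel_trans hd hL₀ hL.1 (h.top_conj hL.1 hn) hL.2 (hst L hL.1 n hn)⟩
  obtain ⟨a, ha, ha1, hLa⟩ := hL₀.1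
  -- `stab D` is proper
  have hM : stab D ≠ ⊤ := by
    intro htop
    set H := sSup D
    haveI : H.Normal := ⟨fun x hx g => by
      have hle : cj g H ≤ H := by
        rw [map_le_iff_le_comap]
        refine sSup_le fun L hL => map_le_iff_le_comap.1 ?_
        exact le_sSup ((show g ∈ stab D from htop ▸ mem_top g).1 L hL)
      exact hle ⟨x, hx, rfl⟩⟩
    rcases (show H.Normal from inferInstance).eq_bot_or_eq_top with e | e
    · exact compOf_ne_bot hLa (le_bot_iff.1 (e ▸ le_sSup hD0))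
    · have hn : (⊤ : Subgroup G) ≤ normalizer (L₀ : Set G) :=
        e ▸ sSup_le fun L hL => hL.2.mem_normalizer
      haveI : L₀.Normal := normalizer_eq_top_iff.1 (top_le_iff.1 hn)
      rcases (show L₀.Normal from inferInstance).eq_bot_or_eq_top with e' | e'
      · exact compOf_ne_bot hLa e'
      · exact h.cfg.centralizer_ne_top ha1 (top_le_iff.1 (e' ▸ hLa.1))
  -- good elements
  have hgood : ∀ L ∈ D, ∀ z ∈ kp A L, z ≠ 1 → centralizer ({z} : Set G) ≤ stab D := by
    intro L₁ h₁ z hz hz1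
    refine le_of_components h.cfg.absyl (h.core_bot hz.1 hz1) S (h.S_le_cent hz.1)
      (inf_le_left.trans hN) fun J hJ => le_stab fun j hj L hL => ?_
    have hL1z := h.top_componentOf hd h₁.1 hz hz1
    by_cases e1 : J = L₁
    · have := (hrel hL h₁).mem_normalizer
      rw [cj_eq_of_mem_normalizer (this (e1 ▸ hj))]
      exact hL
    have hJ1 : ⁅J, L₁⁆ = ⊥ := compOf_commute hJ hL1z e1
    have hjL1 : cj j L₁ = L₁ :=
      cj_eq_of_mem_normalizer (Components.le_normalizer_of_commutator_eq_bot hJ1 hj)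
    by_cases e2 : L = L₁
    · rw [e2, hjL1]; exact h₁
    have hLL1 : ⁅L, L₁⁆ = ⊥ := (hrel hL h₁).resolve_left e2
    obtain ⟨b, hb, hb1, hLb⟩ := h₁.1.1
    obtain ⟨v, hv, hv1⟩ :=
      (A ⊓ L₁).bot_or_exists_ne_one.resolve_left (h.piece_ne_bot hd hb hb1 hLb)
    have hLv := h.top_componentOf hd hL.1 (h.piece_le_kp hLL1 hv) hv1
    have hjv : j * v * j⁻¹ = v := by
      rw [Components.commute_of_commutator_eq_bot hJ1 hj hv.2, mul_inv_cancel_right]
    have hcomp := h.conj_component hv.1 hv1 hLv (n := j)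
    rw [hjv] at hcomp
    have htop : TopComp A (cj j L) := ⟨⟨v, hv.1, hv1, hcomp⟩, fun b hb hb1 J' hJ' => by
      rw [card_map_of_injective (MulAut.conj j).injective]
      exact hL.1.2 b hb hb1 J' hJ'⟩
    refine ⟨htop, h.rel_trans hd hL₀ h₁.1 htop h₁.2 ?_⟩
    have := (hrel h₁ hL).cj (g := j)
    rwa [hjL1] at this
  -- conjugation by `N(S)` of pieces and centralising parts
  have hpiece : ∀ n ∈ N, ∀ (L : Subgroup G), ∀ x ∈ A ⊓ L, n * x * n⁻¹ ∈ A ⊓ cj n L :=
    fun n hn L x hx => ⟨h.conj_mem hn hx.1, x, hx.2, rfl⟩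
  have hsh := pieceFacts_of_shapeData hd
  by_cases hone : ∀ L ∈ D, L = L₀
  · -- a single component
    have hfix : ∀ n ∈ N, cj n L₀ = L₀ := fun n hn => hone _ ((hN hn).1 L₀ hD0)
    refine H1.Walter.false_of_pair hsh h.cfg h.noSE h.cores S hM hN
      (K := kp A L₀) (X := A ⊓ L₀)
      { le_left := inf_le_left.trans h.le_S, le_right := inf_le_left.trans h.le_S,
        sq_left := fun x hx => h.sq hx.1, sq_right := fun x hx => h.sq hx.1,
        inf := by rw [inf_comm]; exact h.piece_inf_kp hd ha ha1 hLa,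
        gen := fun u hu hu2 => ?_, inv_left := fun n hn x hx => ?_,
        inv_right := fun n hn x hx => hfix n hn ▸ hpiece n hn L₀ x hx,
        ne_left := fun e => ha1 (mem_bot.1 (e ▸ h.self_mem_kp hd ha ha1 hLa)),
        ne_right := h.piece_ne_bot hd ha ha1 hLa } (hgood L₀ hD0)
    · have huA : u ∈ A := (h.mem_iff u).2 ⟨hu, hu2⟩
      obtain ⟨v, hv, q, hq, e⟩ := h.exists_decomp hd ha ha1 hLa hu
      refine ⟨q, ⟨?_, hq.2⟩, v, hv, ?_⟩
      · have := A.mul_mem (A.inv_mem hv.1) huA
        rwa [← e, inv_mul_cancel_left] at this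
      · rw [← e, (h.comm (h.le_S hv.1) hq.1).eq]
    · refine ⟨h.conj_mem hn hx.1, mem_centralizer_iff.2 fun y hy => ?_⟩
      obtain ⟨l, hl, rfl⟩ := (hfix n hn).symm ▸ hy
      show n * l * n⁻¹ * (n * x * n⁻¹) = n * x * n⁻¹ * (n * l * n⁻¹)
      rw [show n * l * n⁻¹ * (n * x * n⁻¹) = n * (l * x) * n⁻¹ by group,
        mem_centralizer_iff.1 hx.2 l hl]
      group
  · -- at least two components
    push Not at hone
    obtain ⟨L₁, h₁, hne₁⟩ := hone
    haveI hnt : Nontrivial ↥D :=
      ⟨⟨L₀, hD0⟩, ⟨L₁, h₁⟩, fun e => hne₁ (congrArg Subtype.val e).symm⟩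
    have hkle : ∀ {L L'}, L ∈ D → L' ∈ D → L ≠ L' → A ⊓ L' ≤ kp A L := fun hL hL' hne =>
      h.piece_le_kp ((hrel hL hL').resolve_left hne)
    have hmeet : ∀ {L x}, L ∈ D → x ∈ A ⊓ L → x ∈ kp A L → x = 1 := by
      intro L x hL hx hx'
      obtain ⟨b, hb, hb1, hLb⟩ := hL.1.1
      have := show x ∈ (A ⊓ L) ⊓ kp A L from ⟨hx, hx'⟩
      rwa [h.piece_inf_kp hd hb hb1 hLb, mem_bot] at this
    refine H1.Walter.false_of_family hsh h.cfg h.noSE h.cores S hM hN (ι := ↥D)
      (P := fun L => A ⊓ (L : Subgroup G)) (fun L => inf_le_left.trans h.le_S) (fun L => ?_)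
      (fun L x hx hx1 => ?_) (fun n hn L => ⟨⟨_, (hN hn).1 L L.2⟩, hpiece n hn L⟩) ?_ hnt
      (W := kp A L₀) (inf_le_left.trans h.le_S) (hgood L₀ hD0) ?_
    · obtain ⟨b, hb, hb1, hLb⟩ := L.2.1.1
      exact h.piece_ne_bot hd hb hb1 hLb
    · obtain ⟨L', hne⟩ := exists_ne L
      exact hgood L' L'.2 x (hkle L'.2 L.2 (fun e => hne (Subtype.ext e)) hx) hx1
    · intro L L' hne x hx y hy hx1 hy1 K hxy
      have hne' : (L : Subgroup G) ≠ L' := fun e => hne (Subtype.ext e)
      by_cases hK : (K : Subgroup G) = L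
      · have := mul_mem (inv_mem hx) (hK ▸ hxy : x * y ∈ A ⊓ (L : Subgroup G))
        rw [inv_mul_cancel_left] at this
        exact hy1 (hmeet L.2 this (hkle L.2 L'.2 hne' hy))
      by_cases hK' : (K : Subgroup G) = L'
      · have := mul_mem (hK' ▸ hxy : x * y ∈ A ⊓ (L' : Subgroup G)) (inv_mem hy)
        rw [mul_inv_cancel_right] at this
        exact hx1 (hmeet L'.2 this (hkle L'.2 L.2 (Ne.symm hne') hx))
      have e := hmeet K.2 hxy (mul_mem (hkle K.2 L.2 hK hx) (hkle K.2 L'.2 hK' hy))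
      have exy : x = y := by rw [eq_inv_of_mul_eq_one_left e, h.inv_eq hy.1]
      exact hy1 (hmeet L.2 (exy ▸ hx) (hkle L.2 L'.2 hne' hy))
    · -- `|D| + 1 < |C_A(L₀)|`
      have hspan : ∀ s : Finset (Subgroup G), (∀ L ∈ s, L ∈ D) →
          4 ^ s.card ≤ Nat.card ↥(s.sup fun L => A ⊓ L) := by
        intro s
        induction s using Finset.induction_on with
        | empty => intro _; simp
        | @insert L s hni ih =>
          intro hall
          have hL : L ∈ D := hall L (Finset.mem_insert_self _ _)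
          set T := s.sup fun L => A ⊓ L
          have hT : T ≤ kp A L := Finset.sup_le fun L' hL' =>
            hkle hL (hall L' (Finset.mem_insert_of_mem hL')) fun e => hni (e ▸ hL')
          obtain ⟨b, hb, hb1, hLb⟩ := hL.1.1
          rw [Finset.card_insert_of_notMem hni, pow_succ, Finset.sup_insert]
          refine (Nat.mul_le_mul (ih fun L' hL' => hall L' (Finset.mem_insert_of_mem hL'))
            (h.four hd hb hb1 hLb)).trans ?_
          rw [← Nat.card_prod]
          refine Nat.card_le_card_of_injective (fun p : ↥T × ↥(A ⊓ L) =>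
            (⟨(p.1 : G) * p.2, mul_mem (mem_sup_right p.1.2) (mem_sup_left p.2.2)⟩ :
              ↥((A ⊓ L) ⊔ T))) fun p q e => ?_
          exact Subgroup.mul_injective_of_disjoint (disjoint_iff.2 ((eq_bot_iff_forall _).2
            fun x hx => hmeet hL hx.2 (hT hx.1))) (congrArg Subtype.val e)
      haveI : Fintype ↥D := Fintype.ofFinite _
      set s := D.toFinset.erase L₀
      have hs : Nat.card ↥D = s.card + 1 := by
        rw [Nat.card_eq_fintype_card, ← Set.toFinset_card,
          Finset.card_erase_add_one (Set.mem_toFinset.2 hD0)]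
      have hle : 4 ^ s.card ≤ Nat.card ↥(kp A L₀) :=
        (hspan s fun L hL => Set.mem_toFinset.1 (Finset.mem_of_mem_erase hL)).trans
          (card_le_of_le (Finset.sup_le fun L hL => hkle hD0
            (Set.mem_toFinset.1 (Finset.mem_of_mem_erase hL)) (Finset.ne_of_mem_erase hL).symm))
      have h2 : 1 < Nat.card ↥D := Finite.one_lt_card
      obtain ⟨k, hk⟩ : ∃ k, s.card = k + 1 := ⟨s.card - 1, by omega⟩
      have hgrow : ∀ k : ℕ, k + 3 < 4 ^ (k + 1) := fun k => by
        induction k with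
        | zero => norm_num
        | succ k ih => rw [pow_succ]; omega
      have := hgrow k
      rw [← hk] at this
      omega

end CCtx

/-- The components step, from the data of the simple pieces. -/
theorem compStep (hd : H88.Walter.ShapeData.{u}) : CompStep.{u} := by
  intro G _ _ hcfg hno hc h3 hcores
  obtain ⟨S, A, h⟩ := exists_cctx hcfg hno hcores h3
  obtain ⟨L₀, hL₀⟩ := h.exists_top hc
  by_cases hst : ∀ L, TopComp A L → ∀ n ∈ normalizer ((S : Subgroup G) : Set G), Rel L (cj n L)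
  · exact (h.false_of_stable hd hL₀ hst).elim
  push Not at hst
  obtain ⟨L, hL, n, hn, hr⟩ := hst
  exact h.typeR_of_move hd (h.eight_of_not_rel hd hL hn hr) hL hn hr
    fun m hm => h.exists_odd_pow hm

end Cfsg.Agent.H10.Walter
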