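import Cfsg.Agent.H10.Walter.Local
import Cfsg.Agent.Components.Terminal

/-!
# Components of core-free subgroups of a group with abelian Sylow 2-subgroups

`C` is a subgroup with trivial odd core; its components are treated as subgroups of the ambient
group.  `C` is the layer times the normaliser of a Sylow 2-subgroup, and a perfect subgroup of `C`
lies in the layer.
-/

set_option autoImplicit false
set_option linter.unusedSectionVars false
set_option linter.style.haveILetI false

namespace Cfsg.Agent.H10.Walter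

open Subgroup Cfsg.Agent

universe u

variable {G : Type u} [Group G] [Finite G] {C : Subgroup G} {L J : Subgroup G}

local instance fact_two_comp : Fact (Nat.Prime 2) := ⟨Nat.prime_two⟩

/-- The components of `C`, generated in `G`. -/
abbrev layerAt (C : Subgroup G) : Subgroup G :=
  (Cfsg.layer ↥C).map C.subtype

theorem mem_subgroupOf_centralizer {c : ↥C} (hL : L ≤ C) :
    c ∈ centralizer (L.subgroupOf C : Set ↥C) ↔ (c : G) ∈ centralizer (L : Set G) := by
  rw [mem_centralizer_iff, mem_centralizer_iff]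
  exact ⟨fun h x hx => congrArg Subtype.val (h ⟨x, hL hx⟩ hx),
    fun h x hx => Subtype.ext (h x hx)⟩

theorem compOf_simple (h : AbSyl G) (hO : Cfsg.oddCore ↥C = ⊥) (hL : Cfsg.IsComponentOf L C) :
    IsSimpleGroup ↥L ∧ ¬ IsMulCommutative ↥L := by
  obtain ⟨h1, h2⟩ := component_simple (h.subgroup C) hO hL.2
  set e := subgroupOfEquivOfLe hL.1
  haveI := h1
  haveI : Nontrivial ↥L := e.toEquiv.symm.nontrivial
  refine ⟨IsSimpleGroup.isSimpleGroup_of_surjective e.toMonoidHom e.surjective, fun hc => h2 ?_⟩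
  exact ⟨⟨fun a b => e.injective (by rw [map_mul, map_mul, hc.is_comm.comm])⟩⟩

theorem compOf_perfect (hL : Cfsg.IsComponentOf L C) : ⁅L, L⁆ = L := by
  conv_rhs => rw [← Components.map_subgroupOf hL.1, ← Components.component_perfect hL.2]
  rw [map_commutator, Components.map_subgroupOf hL.1]

theorem compOf_ne_bot (hL : Cfsg.IsComponentOf L C) : L ≠ ⊥ := fun e =>
  Components.qsSub_ne_bot hL.2.2 (by rw [e]; exact bot_subgroupOf C)

theorem compOf_commute (hL : Cfsg.IsComponentOf L C) (hJ : Cfsg.IsComponentOf J C) (hne : L ≠ J) :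
    ⁅L, J⁆ = ⊥ := by
  have h := Components.components_commute hL.2 hJ.2 fun e => hne (by
    rw [← Components.map_subgroupOf hL.1, e, Components.map_subgroupOf hJ.1])
  rw [← Components.map_subgroupOf hL.1, ← Components.map_subgroupOf hJ.1, ← map_commutator, h,
    Subgroup.map_bot]

theorem compOf_eq_of_le (hL : Cfsg.IsComponentOf L C) (hJ : Cfsg.IsComponentOf J C) (hle : L ≤ J) :
    L = J := by
  by_contra hne
  have h := commutator_mono hle le_rfl |>.trans_eq (compOf_commute hJ hL (Ne.symm hne))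
  rw [compOf_perfect hL] at h
  exact compOf_ne_bot hL (le_bot_iff.1 h)

theorem compOf_le_layerAt (hL : Cfsg.IsComponentOf L C) : L ≤ layerAt C := by
  rw [← Components.map_subgroupOf hL.1]
  exact map_mono (Components.component_le_layer hL.2)

theorem compOf_of_isComponent {K : Subgroup ↥C} (hK : Cfsg.IsComponent K) :
    Cfsg.IsComponentOf (K.map C.subtype) C := by
  refine ⟨map_subtype_le K, ?_⟩
  rwa [show (K.map C.subtype).subgroupOf C = K from
    comap_map_eq_self_of_injective C.subtype_injective K]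

theorem layerAt_le {M : Subgroup G} (hM : ∀ J, Cfsg.IsComponentOf J C → J ≤ M) :
    layerAt C ≤ M := by
  rw [map_le_iff_le_comap]
  exact sSup_le fun K hK => map_le_iff_le_comap.1 (hM _ (compOf_of_isComponent hK))

theorem layerAt_le_normalizer (hL : Cfsg.IsComponentOf L C) :
    layerAt C ≤ normalizer (L : Set G) := by
  refine layerAt_le fun J hJ => ?_
  by_cases e : J = L
  · exact e ▸ le_normalizer
  · exact Components.le_normalizer_of_commutator_eq_bot (compOf_commute hJ hL e)

/-- A 2-element of `C` normalises every component. -/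
theorem sylow_le_normalizer (h : AbSyl G) (hO : Cfsg.oddCore ↥C = ⊥)
    (hL : Cfsg.IsComponentOf L C) (S : Sylow 2 G) (hS : (S : Subgroup G) ≤ C) :
    (S : Subgroup G) ≤ normalizer (L : Set G) := by
  intro s hs
  have h1 := le_normalizer_component (h.subgroup C) hO hL.2 (S.subtype hS)
    (show (⟨s, hS hs⟩ : ↥C) ∈ _ from hs)
  rw [mem_normalizer_iff] at h1 ⊢
  intro x
  by_cases hx : x ∈ C
  · exact h1 ⟨x, hx⟩
  · refine ⟨fun h' => absurd (hL.1 h') hx, fun h' => absurd ?_ hx⟩
    simpa [mul_assoc] using mul_mem (mul_mem (inv_mem (hS hs)) (hL.1 h')) (hS hs)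

/-- A Sylow 2-subgroup acts on a component by inner automorphisms. -/
theorem compOf_inner (h : AbSyl G) (hO : Cfsg.oddCore ↥C = ⊥) (hL : Cfsg.IsComponentOf L C)
    (S : Sylow 2 G) (hS : (S : Subgroup G) ≤ C) {s : G} (hs : s ∈ (S : Subgroup G)) :
    ∃ g ∈ (S : Subgroup G) ⊓ L, s * g⁻¹ ∈ centralizer (L : Set G) := by
  obtain ⟨g, ⟨hgS, hgL⟩, hg⟩ := exists_inner (h.subgroup C) hO hL.2 (S.subtype hS)
    (show (⟨s, hS hs⟩ : ↥C) ∈ _ from hs)
  exact ⟨g, ⟨hgS, hgL⟩, (mem_subgroupOf_centralizer hL.1).1 hg⟩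

/-- A Sylow 2-subgroup meets a component in one of its Sylow 2-subgroups. -/
theorem compOf_sylow (hL : Cfsg.IsComponentOf L C) (S : Sylow 2 G) (hS : (S : Subgroup G) ≤ C) :
    ∃ P : Sylow 2 ↥L, (P : Subgroup ↥L) = (S : Subgroup G).subgroupOf L := by
  obtain ⟨Q, hQ⟩ := Cfsg.Agent.S0542.result 2 (L.subgroupOf C) hL.2.1 (S.subtype hS)
  set e := subgroupOfEquivOfLe hL.1
  refine ⟨Q.mapSurjective (f := e.toMonoidHom) e.surjective, ?_⟩
  show (Q : Subgroup ↥(L.subgroupOf C)).map e.toMonoidHom = _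
  rw [hQ]
  ext x
  simp only [mem_map, mem_subgroupOf]
  constructor
  · rintro ⟨y, hy, rfl⟩
    exact hy
  · intro hx
    exact ⟨⟨⟨x, hL.1 x.2⟩, x.2⟩, hx, Subtype.ext rfl⟩

/-- A perfect subgroup of `C` lies in the layer. -/
theorem le_layerAt_of_perfect (h : AbSyl G) (hO : Cfsg.oddCore ↥C = ⊥) {A : Subgroup G}
    (hAC : A ≤ C) (hA : ⁅A, A⁆ = A) : A ≤ layerAt C := by
  set E := Cfsg.layer ↥C
  set F := Cfsg.generalizedFittingSubgroup ↥C
  set f := QuotientGroup.mk' E
  set g := QuotientGroup.mk' F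
  -- `C / E` is solvable
  haveI : Group.IsSolvable (↥C ⧸ F) :=
    Cfsg.Agent.S0205.result (odd_index_genFitting (h.subgroup C) hO)
  haveI : Group.IsSolvable (↥C ⧸ E) := by
    haveI : Group.IsSolvable ↥(Cfsg.fittingSubgroup ↥C) := inferInstance
    refine Group.isSolvable_of_ker_le_range (f.comp (Cfsg.fittingSubgroup ↥C).subtype)
      (QuotientGroup.map E F (MonoidHom.id _) (by rw [comap_id]; exact le_sup_left)) ?_
    rintro x hx
    obtain ⟨y, rfl⟩ := QuotientGroup.mk'_surjective E x
    rw [MonoidHom.mem_ker, QuotientGroup.map_mk', MonoidHom.id_apply, QuotientGroup.eq_one_iff] at hx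
    rw [MonoidHom.range_comp, range_subtype]
    have h1 : (⊥ : Subgroup (↥C ⧸ E)) = E.map f := (QuotientGroup.map_mk'_self E).symm
    have hy : y ∈ Cfsg.layer ↥C ⊔ Cfsg.fittingSubgroup ↥C := by
      rw [← Components.genFitting_eq_sup]; exact hx
    have h2 := mem_map_of_mem f hy
    rwa [Subgroup.map_sup, ← h1, bot_sup_eq] at h2
  have hB : ⁅(A.subgroupOf C).map f, (A.subgroupOf C).map f⁆ = (A.subgroupOf C).map f := by
    rw [← map_commutator]
    congr 1
    refine map_injective C.subtype_injective ?_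
    rw [map_commutator, Components.map_subgroupOf hAC, hA]
  have hbot : (A.subgroupOf C).map f = ⊥ := by
    by_contra hne
    obtain ⟨x, hx, hx1⟩ := ((A.subgroupOf C).map f).bot_or_exists_ne_one.resolve_left hne
    haveI : Group.IsPerfect ↥((A.subgroupOf C).map f) := Subgroup.isPerfect_iff.2 hB
    haveI : Nontrivial ↥((A.subgroupOf C).map f) := ⟨⟨x, hx⟩, 1, fun e => hx1 (congrArg Subtype.val e)⟩
    exact Group.IsPerfect.not_isSolvable (G := ↥((A.subgroupOf C).map f)) inferInstance
  rw [← Components.map_subgroupOf hAC]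
  refine map_mono ?_
  rw [Subgroup.map_eq_bot_iff, QuotientGroup.ker_mk'] at hbot
  exact hbot

/-- `C` is contained in `M` if its components and the normaliser of a Sylow 2-subgroup are. -/
theorem le_of_components (h : AbSyl G) (hO : Cfsg.oddCore ↥C = ⊥) (S : Sylow 2 G)
    (hS : (S : Subgroup G) ≤ C) {M : Subgroup G}
    (hN : normalizer ((S : Subgroup G) : Set G) ⊓ C ≤ M)
    (hM : ∀ J, Cfsg.IsComponentOf J C → J ≤ M) : C ≤ M := by
  set F := Cfsg.generalizedFittingSubgroup ↥C
  set T := S.subtype hS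
  have hTM : ((T : Subgroup ↥C)).map C.subtype ≤ M := by
    rintro _ ⟨x, hx, rfl⟩
    exact hN ⟨le_normalizer hx, x.2⟩
  have hTF : (T : Subgroup ↥C) ≤ F := sylow_le_genFitting (h.subgroup C) hO T
  have hF : F.map C.subtype ≤ M := by
    rw [show F = Cfsg.layer ↥C ⊔ Cfsg.fittingSubgroup ↥C from Components.genFitting_eq_sup, Subgroup.map_sup]
    exact sup_le (layerAt_le hM) ((map_mono ((Components.fitting_le_pCore (p := 2) hO).trans
      (Cores.pCore_le_sylow T))).trans hTM)
  intro c hc
  have htop : normalizer ((T : Subgroup ↥C) : Set ↥C) ⊔ F = ⊤ := Sylow.normalizer_sup_eq_top' T hTF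
  have hcm : (⟨c, hc⟩ : ↥C) ∈ normalizer ((T : Subgroup ↥C) : Set ↥C) ⊔ F := htop ▸ mem_top _
  refine (show normalizer ((T : Subgroup ↥C) : Set ↥C) ⊔ F ≤ M.comap C.subtype from
    sup_le (fun n hn => hN ⟨?_, n.2⟩) (map_le_iff_le_comap.1 hF)) hcm
  show (n : G) ∈ normalizer ((S : Subgroup G) : Set G)
  rw [mem_normalizer_iff] at hn ⊢
  intro x
  by_cases hx : x ∈ C
  · exact hn ⟨x, hx⟩
  · refine ⟨fun h' => absurd (hS h') hx, fun h' => absurd ?_ hx⟩
    simpa [mul_assoc] using mul_mem (mul_mem (inv_mem n.2) (hS h')) n.2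

end Cfsg.Agent.H10.Walter
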