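import Cfsg.Agent.H10.Walter.Comp.Setting
import Cfsg.Agent.H18.Walter.LinMul

/-!
# Moving the largest component

If `N(S)` moves a largest component `L` to one which neither equals nor commutes with it, then
`|A| = 8`: otherwise the linear lemma gives an involution of `C_A(L)` with all its conjugates there.
-/

set_option autoImplicit false
set_option linter.unusedSectionVars false
set_option linter.style.haveILetI false

namespace Cfsg.Agent.H10.Walter

open Subgroup Cfsg.Agent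

universe u

section Linear

variable {W : Type*} [CommGroup W] [Finite W]

/-- An odd group of automorphisms of `W = Q × V` with an element fixing `Q` whose powers are
transitive on `V` has an orbit inside `Q`, for `16 ≤ |W|` and `|Q| ≤ |V|`. -/
theorem exists_orbit_le (hsq : ∀ w : W, w * w = 1) (h16 : 16 ≤ Nat.card W)
    (H : Subgroup (MulAut W)) [Group.IsSolvable H] (hodd : Odd (Nat.card H))
    (τ : MulAut W) (hτ : τ ∈ H) (Q V : Subgroup W) (hQ1 : Q ≠ ⊥)
    (hfix : ∀ q ∈ Q, τ q = q) (hV : ∀ v ∈ V, τ v ∈ V)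
    (htrans : ∀ v ∈ V, v ≠ 1 → ∀ v' ∈ V, v' ≠ 1 → ∃ i : ℕ, (τ ^ i) v = v')
    (hQV : IsCompl Q V) (hle : Nat.card Q ≤ Nat.card V) (hV4 : 4 ≤ Nat.card V) :
    ∃ x ∈ Q, x ≠ 1 ∧ ∀ σ ∈ H, σ x ∈ Q := by
  classical
  obtain ⟨X, hXb, hXt, hXinv⟩ :=
    H18.Walter.exists_invariant hsq h16 H hodd τ hτ Q V hQ1 hfix hV htrans hQV hle
  have hpowX : ∀ i : ℕ, ∀ x ∈ X, (τ ^ i) x ∈ X := fun i => hXinv _ (pow_mem hτ i)
  have hdecomp : ∀ w : W, ∃ q ∈ Q, ∃ v ∈ V, q * v = w := fun w =>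
    Subgroup.mem_sup_of_normal_left.1 (hQV.sup_eq_top ▸ Subgroup.mem_top w : w ∈ Q ⊔ V)
  -- `τ` fixes nothing in `V`
  have hnofix : ∀ v ∈ V, τ v = v → v = 1 := by
    intro v hv hf
    by_contra hv1
    have hall : ∀ i : ℕ, (τ ^ i) v = v := by
      intro i
      induction i with
      | zero => rfl
      | succ i ih =>
        rw [pow_succ]
        show (τ ^ i) (τ v) = v
        rw [hf, ih]
    have hsub : (V : Set W) ⊆ {1, v} := fun u hu => by
      by_cases hu1 : u = 1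
      · exact Or.inl hu1
      · obtain ⟨i, hi⟩ := htrans v hv hv1 u hu hu1
        exact Or.inr (by rw [← hi, hall]; rfl)
    have := (Nat.card_mono (Set.toFinite _) hsub).trans (Set.ncard_insert_le _ _)
    rw [Set.ncard_singleton] at this
    have : Nat.card ↥V ≤ 2 := this
    omega
  have hτV : ∀ w : W, τ w * w⁻¹ ∈ V ∧ (τ w = w → w ∈ Q) := by
    intro w
    obtain ⟨q, hq, v, hv, rfl⟩ := hdecomp w
    rw [map_mul, hfix q hq]
    refine ⟨?_, fun e => ?_⟩
    · rw [show q * τ v * (q * v)⁻¹ = τ v * v⁻¹ by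
        rw [mul_inv_rev, mul_comm q (τ v), mul_assoc, mul_left_comm q, mul_inv_cancel, mul_one]]
      exact V.mul_mem (hV v hv) (V.inv_mem hv)
    · rw [hnofix v hv (mul_left_cancel e), mul_one]
      exact hq
  by_cases hXV : ∃ x ∈ X, x ∈ V ∧ x ≠ 1
  · -- `V ≤ X`: the fixed points of the elements acting trivially on `W / X`
    obtain ⟨x, hxX, hxV, hx1⟩ := hXV
    have hVX : V ≤ X := fun v hv => by
      by_cases hv1 : v = 1
      · rw [hv1]; exact one_mem _
      · obtain ⟨i, hi⟩ := htrans x hxV hx1 v hv hv1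
        exact hi ▸ hpowX i x hxX
    let R : Subgroup (MulAut W) :=
      { carrier := {σ | σ ∈ H ∧ ∀ w : W, σ w * w⁻¹ ∈ X}
        one_mem' := ⟨one_mem _, fun w => by
          rw [MulAut.one_apply, mul_inv_cancel]; exact one_mem _⟩
        mul_mem' := fun {σ ρ} hσ hρ => ⟨mul_mem hσ.1 hρ.1, fun w => by
          have := X.mul_mem (hσ.2 (ρ w)) (hρ.2 w)
          rwa [mul_assoc, inv_mul_cancel_left] at this⟩
        inv_mem' := fun {σ} hσ => ⟨inv_mem hσ.1, fun w => by
          have := hσ.2 (σ⁻¹ w)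
          rw [MulAut.apply_inv_self] at this
          simpa using X.inv_mem this⟩ }
    have hτR : τ ∈ R := ⟨hτ, fun w => hVX (hτV w).1⟩
    obtain ⟨w, -, hw⟩ : ∃ w : W, w ∈ (⊤ : Subgroup W) ∧ w ∉ X :=
      SetLike.exists_of_lt (lt_top_iff_ne_top.2 hXt)
    haveI : Fintype ↥R := Fintype.ofFinite _
    set w0 := ∏ r : ↥R, (r : MulAut W) w with hw0
    have hfixed : ∀ σ ∈ R, σ w0 = w0 := by
      intro σ hσ
      rw [hw0, map_prod]
      exact Fintype.prod_equiv (Equiv.mulLeft (⟨σ, hσ⟩ : ↥R)) _ _ fun r => rfl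
    have hRodd : Odd (Fintype.card ↥R) := by
      rw [← Nat.card_eq_fintype_card]
      exact hodd.of_dvd_nat (card_dvd_of_le fun σ hσ => hσ.1)
    have hw0X : w0 ∉ X := by
      intro hc
      have hmem : ∏ r : ↥R, ((r : MulAut W) w * w⁻¹) ∈ X := X.prod_mem fun r _ => r.2.2 w
      rw [Finset.prod_mul_distrib, Finset.prod_const, Finset.card_univ] at hmem
      have := X.mul_mem (X.inv_mem hmem) hc
      rw [hw0, mul_inv_rev, inv_mul_cancel_right, ← inv_pow, inv_inv] at this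
      obtain ⟨j, hj⟩ := hRodd
      rw [hj, pow_succ, pow_mul, pow_two, hsq, one_pow, one_mul] at this
      exact hw this
    have hσ0 : ∀ σ ∈ H, σ w0 ∈ Q := by
      intro σ hσ
      refine (hτV _).2 ?_
      have hR : σ⁻¹ * τ * σ ∈ R := ⟨mul_mem (mul_mem (inv_mem hσ) hτ) hσ, fun u => by
        have hu := hXinv _ (inv_mem hσ) _ (hτR.2 (σ u))
        rwa [map_mul, map_inv, MulAut.inv_apply_self] at hu⟩
      have := congrArg σ (hfixed _ hR)
      rwa [MulAut.mul_apply, MulAut.mul_apply, MulAut.apply_inv_self] at this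
    exact ⟨w0, by simpa using hσ0 1 (one_mem _), fun e => hw0X (e ▸ one_mem _), hσ0⟩
  · -- `X ≤ Q`
    push Not at hXV
    have hXQ : X ≤ Q := by
      intro x hx
      refine (hτV x).2 ?_
      have := hXV _ (X.mul_mem (hXinv τ hτ x hx) (X.inv_mem hx)) (hτV x).1
      exact mul_inv_eq_one.1 this
    obtain ⟨x, hx, hx1⟩ := X.bot_or_exists_ne_one.resolve_left hXb
    exact ⟨x, hXQ hx, hx1, fun σ hσ => hXQ (hXinv σ hσ x hx)⟩

end Linear

variable {G : Type u} [Group G] [Finite G]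

local instance fact_two_move : Fact (Nat.Prime 2) := ⟨Nat.prime_two⟩

namespace CCtx

variable {S : Sylow 2 G} {A : Subgroup G} (h : CCtx S A)
include h

/-- The automizer of `A` has odd order. -/
theorem odd_card_range : Odd (Nat.card ↥(A.normalizerMonoidHom).range) := by
  rw [← Subgroup.index_ker]
  have hle : (S : Subgroup G).subgroupOf (normalizer (A : Set G)) ≤
      (A.normalizerMonoidHom).ker := by
    rw [normalizerMonoidHom_ker]
    exact fun x hx => h.S_le_centralizer hx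
  exact Odd.of_dvd_nat (Nat.odd_iff.2 (Nat.two_dvd_ne_zero.1 S.not_dvd_index))
    ((Subgroup.index_dvd_of_le hle).trans (relIndex_dvd_index_of_le
      (h.S_le_centralizer.trans (centralizer_le_normalizer _))))

/-- An element of `N(A)` acts on `A` as an element of odd order. -/
theorem exists_odd_pow {n : G} (hn : n ∈ normalizer (A : Set G)) :
    ∃ k : ℕ, Odd k ∧ ∀ a ∈ A, n ^ k * a * (n ^ k)⁻¹ = a := by
  refine ⟨_, h.odd_card_range, fun a ha => ?_⟩
  have h1 : A.normalizerMonoidHom ⟨n, hn⟩ ^ Nat.card ↥(A.normalizerMonoidHom).range = 1 :=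
    congrArg Subtype.val (pow_card_eq_one'
      (x := (⟨_, ⟨⟨n, hn⟩, rfl⟩⟩ : ↥(A.normalizerMonoidHom).range)))
  rw [← map_pow] at h1
  exact congrArg (fun e : MulAut ↥A => ((e ⟨a, ha⟩ : ↥A) : G)) h1

theorem card_two_pow : ∃ N : ℕ, Nat.card A = 2 ^ N :=
  IsPGroup.iff_card.1 (H47.isPGroup_of_elementaryAbelian h.elem)

variable (hd : H88.Walter.ShapeData.{u}) {L : Subgroup G}
include hd

/-- The linear lemma in `G`. -/
theorem exists_kp_orbit {a : G} (ha : a ∈ A) (ha1 : a ≠ 1)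
    (hL : Cfsg.IsComponentOf L (centralizer ({a} : Set G))) (h16 : 16 ≤ Nat.card A)
    (hle : Nat.card ↥(kp A L) ≤ Nat.card ↥(A ⊓ L)) :
    ∃ x ∈ kp A L, x ≠ 1 ∧
      ∀ n ∈ normalizer ((S : Subgroup G) : Set G), n * x * n⁻¹ ∈ kp A L := by
  letI : CommGroup ↥A := { (inferInstance : Group ↥A) with
    mul_comm := fun x y => Subtype.ext (h.comm (h.le_S x.2) (h.le_S y.2)).eq }
  obtain ⟨y, -, hyS, hyfix, hyP, hycyc⟩ := h.exists_cyc hd ha ha1 hL
  set φ := A.normalizerMonoidHom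
  set τ := φ ⟨y, h.normalizer_le hyS⟩
  haveI : Group.IsSolvable ↥φ.range := Cfsg.Agent.S0205.result h.odd_card_range
  have hcard : ∀ {K : Subgroup G}, K ≤ A → Nat.card ↥(K.subgroupOf A) = Nat.card ↥K :=
    fun hK => Nat.card_congr (subgroupOfEquivOfLe hK).toEquiv
  have hQV : IsCompl ((kp A L).subgroupOf A) ((A ⊓ L).subgroupOf A) := by
    refine IsCompl.of_eq ?_ ?_
    · rw [show (kp A L).subgroupOf A ⊓ (A ⊓ L).subgroupOf A = (kp A L ⊓ (A ⊓ L)).subgroupOf A from
          (comap_inf _ _ _).symm, inf_comm, h.piece_inf_kp hd ha ha1 hL, bot_subgroupOf]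
    · rw [← subgroupOf_sup inf_le_left inf_le_left, sup_comm, h.sup_eq hd ha ha1 hL,
        subgroupOf_self]
  have htr : ∀ v ∈ (A ⊓ L).subgroupOf A, v ≠ 1 → ∀ v' ∈ (A ⊓ L).subgroupOf A, v' ≠ 1 →
      ∃ i : ℕ, (τ ^ i) v = v' := by
    intro v hv hv1 v' hv' hv1'
    obtain ⟨i, hi⟩ := hycyc v hv v' hv' (fun e => hv1 (Subtype.ext e)) (fun e => hv1' (Subtype.ext e))
    exact ⟨i, by rw [← map_pow]; exact Subtype.ext hi⟩
  obtain ⟨x, hxQ, hx1, hx⟩ := exists_orbit_le (W := ↥A)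
    (fun w => Subtype.ext (h.sq w.2)) h16 φ.range h.odd_card_range τ ⟨_, rfl⟩
    ((kp A L).subgroupOf A) ((A ⊓ L).subgroupOf A)
    (fun e => ha1 (congrArg Subtype.val (show (⟨a, ha⟩ : ↥A) = 1 from
      mem_bot.1 (e ▸ mem_subgroupOf.2 (h.self_mem_kp hd ha ha1 hL)))))
    (fun q hq => Subtype.ext (hyfix q hq)) (fun v hv => mem_subgroupOf.2 (hyP v hv)) htr hQV
    (by rw [hcard inf_le_left, hcard inf_le_left]; exact hle)
    (by rw [hcard inf_le_left]; exact h.four hd ha ha1 hL)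
  exact ⟨x, hxQ, fun e => hx1 (Subtype.ext e), fun n hn =>
    hx (φ ⟨n, h.normalizer_le hn⟩) ⟨_, rfl⟩⟩

/-- A largest component moved by `N(S)` to a component neither equal to it nor commuting: then
`|A| = 8`. -/
theorem eight_of_not_rel (hL : TopComp A L) {n : G}
    (hn : n ∈ normalizer ((S : Subgroup G) : Set G))
    (hr : ¬ Rel L (L.map (MulAut.conj n).toMonoidHom)) : Nat.card A = 8 := by
  obtain ⟨a, ha, ha1, hLa⟩ := hL.1
  set L' := L.map (MulAut.conj n).toMonoidHom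
  have hkp : ∀ x, x ∈ kp A L' ↔ n⁻¹ * x * n ∈ kp A L := by
    intro x
    have hA : x ∈ A ↔ n⁻¹ * x * n ∈ A := mem_normalizer_iff''.1 (h.normalizer_le hn) x
    refine and_congr hA ⟨fun hx => ?_, fun hx => ?_⟩
    · refine mem_centralizer_iff.2 fun l hl => ?_
      have := mem_centralizer_iff.1 hx (n * l * n⁻¹) ⟨l, hl, rfl⟩
      calc l * (n⁻¹ * x * n) = n⁻¹ * ((n * l * n⁻¹) * x) * n := by group
        _ = n⁻¹ * (x * (n * l * n⁻¹)) * n := by rw [this]
        _ = n⁻¹ * x * n * l := by group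
    · refine mem_centralizer_iff.2 fun y hy => ?_
      obtain ⟨l, hl, rfl⟩ := hy
      show n * l * n⁻¹ * x = x * (n * l * n⁻¹)
      have := mem_centralizer_iff.1 hx l hl
      calc n * l * n⁻¹ * x = n * (l * (n⁻¹ * x * n)) * n⁻¹ := by group
        _ = n * (n⁻¹ * x * n * l) * n⁻¹ := by rw [this]
        _ = _ := by group
  have hinf : kp A L ⊓ kp A L' = ⊥ := (eq_bot_iff_forall _).2 fun x hx => by_contra fun hx1 =>
    hr (h.rel_of_common hd hL (h.top_conj hL hn) hx.1 hx.2 hx1)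
  have hle : Nat.card ↥(kp A L) ≤ Nat.card ↥(A ⊓ L) := by
    refine Nat.le_of_mul_le_mul_right ?_ (Nat.card_pos (α := ↥(kp A L)))
    rw [h.card_mul hd ha ha1 hLa, ← Nat.card_prod]
    refine Nat.card_le_card_of_injective (fun p : ↥(kp A L) × ↥(kp A L) =>
      (⟨(p.1 : G) * (n * p.2 * n⁻¹), mul_mem p.1.2.1 (h.conj_mem hn p.2.2.1)⟩ : ↥A)) ?_
    intro p q e
    have hmem : ∀ z : ↥(kp A L), n * (z : G) * n⁻¹ ∈ kp A L' := fun z => (hkp _).2 (by
      rw [show n⁻¹ * (n * (z : G) * n⁻¹) * n = z by group]; exact z.2)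
    have := Subgroup.mul_injective_of_disjoint (disjoint_iff.2 hinf)
      (a₁ := (p.1, (⟨_, hmem p.2⟩ : ↥(kp A L')))) (a₂ := (q.1, ⟨_, hmem q.2⟩))
      (congrArg Subtype.val e)
    refine Prod.ext (Prod.ext_iff.1 this).1 (Subtype.ext ?_)
    simpa using congrArg Subtype.val (Prod.ext_iff.1 this).2
  by_contra h8
  have h16 : 16 ≤ Nat.card A := by
    obtain ⟨N, hN⟩ := h.card_two_pow
    have := h.eight
    rw [hN] at h8 this ⊢
    rcases Nat.lt_or_ge N 4 with hlt | hge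
    · interval_cases N <;> omega
    · exact le_trans (by norm_num) (Nat.pow_le_pow_right two_pos hge)
  obtain ⟨x, hx, hx1, horb⟩ := h.exists_kp_orbit hd ha ha1 hLa h16 hle
  refine hx1 ?_
  have h1 : x ∈ kp A L' := (hkp x).2 (by
    have := horb n⁻¹ (inv_mem hn)
    rwa [inv_inv] at this)
  have := show x ∈ kp A L ⊓ kp A L' from ⟨hx, h1⟩
  rwa [hinf, mem_bot] at this

end CCtx

end Cfsg.Agent.H10.Walter
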