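import Cfsg.Agent.H10.Walter.Comp.Basic
import Cfsg.Agent.H88.Walter.Data
import Cfsg.Agent.H88.Walter.Ctx
import Cfsg.Agent.Components.Terminal

/-!
# The setting of the components step

All cores are trivial and `A = Ω₁(S)` has order at least 8. For a component `L` of a centraliser
`C(a)`, `a ∈ A`: `A = (A ⊓ L) × C_A(L)`, and a component of maximal order is a component of the
centraliser of every involution of `C_A(L)`.
-/

set_option autoImplicit false
set_option linter.unusedSectionVars false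
set_option linter.style.haveILetI false

namespace Cfsg.Agent.H10.Walter

open Subgroup Cfsg.Agent
open scoped commutatorElement

universe u

variable {G : Type u} [Group G] [Finite G]

local instance fact_two_cctx : Fact (Nat.Prime 2) := ⟨Nat.prime_two⟩

/-- `C_A(L)`. -/
abbrev kp (A L : Subgroup G) : Subgroup G :=
  A ⊓ centralizer (L : Set G)

/-- A component of largest order among those of the centralisers of the involutions of `A`. -/
def TopComp (A L : Subgroup G) : Prop :=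
  (∃ a ∈ A, a ≠ 1 ∧ Cfsg.IsComponentOf L (centralizer ({a} : Set G))) ∧
    ∀ b ∈ A, b ≠ 1 → ∀ J : Subgroup G, Cfsg.IsComponentOf J (centralizer ({b} : Set G)) →
      Nat.card J ≤ Nat.card L

/-- Equal or commuting. -/
def Rel (L L' : Subgroup G) : Prop :=
  L = L' ∨ ⁅L, L'⁆ = ⊥

theorem Rel.symm {L L' : Subgroup G} (h : Rel L L') : Rel L' L :=
  h.imp Eq.symm fun e => by rwa [commutator_comm]

theorem centralizer_conj (g a : G) :
    (centralizer ({a} : Set G)).map (MulAut.conj g).toMonoidHom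
      = centralizer ({g * a * g⁻¹} : Set G) := by
  ext x
  simp only [mem_map, mem_centralizer_singleton_iff]
  constructor
  · rintro ⟨y, hy, rfl⟩
    show g * y * g⁻¹ * (g * a * g⁻¹) = g * a * g⁻¹ * (g * y * g⁻¹)
    rw [show g * y * g⁻¹ * (g * a * g⁻¹) = g * (y * a) * g⁻¹ by group, hy]
    group
  · intro hx
    refine ⟨g⁻¹ * x * g, ?_, by show g * (g⁻¹ * x * g) * g⁻¹ = x; group⟩
    rw [show g⁻¹ * x * g * a = g⁻¹ * (x * (g * a * g⁻¹)) * g by group, hx]
    group

/-- The hypotheses of the components step, with `A = Ω₁(S)`. -/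
structure CCtx (S : Sylow 2 G) (A : Subgroup G) : Prop where
  cfg : Cfg G
  noSE : NoSE G
  cores : CoresTrivial G
  mem_iff : ∀ x : G, x ∈ A ↔ x ∈ (S : Subgroup G) ∧ x * x = 1
  eight : 8 ≤ Nat.card A

/-- The setting exists in rank at least three. -/
theorem exists_cctx (h : Cfg G) (hno : NoSE G) (hc : CoresTrivial G)
    (h3 : ¬ Cfsg.PRankLE 2 2 G) : ∃ (S : Sylow 2 G) (A : Subgroup G), CCtx S A := by
  unfold Cfsg.PRankLE at h3
  push Not at h3
  obtain ⟨E, hEc, hE2, hE⟩ := h3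
  obtain ⟨n, hn⟩ := IsPGroup.iff_card.1 (H47.isPGroup_of_elementaryAbelian
    (show Cfsg.IsElementaryAbelian 2 E from ⟨hEc, hE2⟩))
  obtain ⟨S, hES⟩ := (H47.isPGroup_of_elementaryAbelian
    (show Cfsg.IsElementaryAbelian 2 E from ⟨hEc, hE2⟩)).exists_le_sylow
  let A : Subgroup G :=
    { carrier := {x | x ∈ (S : Subgroup G) ∧ x * x = 1}
      one_mem' := ⟨one_mem _, one_mul 1⟩
      mul_mem' := fun {a b} ha hb => ⟨mul_mem ha.1 hb.1, by
        have e := (h.absyl.comm S.isPGroup' ha.1 hb.1).eq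
        calc a * b * (a * b) = a * (b * a) * b := by group
          _ = a * (a * b) * b := by rw [e]
          _ = (a * a) * (b * b) := by group
          _ = 1 := by rw [ha.2, hb.2, one_mul]⟩
      inv_mem' := fun {a} ha => ⟨inv_mem ha.1, by rw [← mul_inv_rev, ha.2, inv_one]⟩ }
  refine ⟨S, A, h, hno, hc, fun x => Iff.rfl, ?_⟩
  refine le_trans ?_ (card_le_of_le (show E ≤ A from
    fun x hx => ⟨hES hx, by rw [← pow_two]; exact hE2 x hx⟩))
  rw [hn] at hE ⊢
  exact (Nat.pow_le_pow_right (by norm_num : 1 ≤ 2)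
    ((Nat.pow_lt_pow_iff_right (by norm_num)).1 hE : 2 < n)).trans' (by norm_num)

namespace CCtx

variable {S : Sylow 2 G} {A : Subgroup G} (h : CCtx S A)
include h

theorem le_S : A ≤ (S : Subgroup G) := fun x hx => ((h.mem_iff x).1 hx).1

theorem sq {x : G} (hx : x ∈ A) : x * x = 1 := ((h.mem_iff x).1 hx).2

theorem inv_eq {x : G} (hx : x ∈ A) : x⁻¹ = x := inv_eq_of_mul_eq_one_right (h.sq hx)

theorem orderOf_eq {x : G} (hx : x ∈ A) (h1 : x ≠ 1) : orderOf x = 2 :=
  orderOf_eq_prime (by rw [pow_two, h.sq hx]) h1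

theorem comm {x y : G} (hx : x ∈ (S : Subgroup G)) (hy : y ∈ (S : Subgroup G)) : Commute x y :=
  h.cfg.absyl.comm S.isPGroup' hx hy

theorem elem : Cfsg.IsElementaryAbelian 2 A :=
  ⟨⟨⟨fun a b => Subtype.ext (h.comm (h.le_S a.2) (h.le_S b.2)).eq⟩⟩,
    fun a ha => by rw [pow_two]; exact h.sq ha⟩

theorem S_le_cent {a : G} (ha : a ∈ A) : (S : Subgroup G) ≤ centralizer {a} := fun x hx =>
  mem_centralizer_singleton_iff.2 (h.comm hx (h.le_S ha)).eq

theorem S_le_centralizer : (S : Subgroup G) ≤ centralizer (A : Set G) := fun x hx =>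
  mem_centralizer_iff.2 fun a ha => (h.comm (h.le_S ha) hx).eq

theorem core_bot {a : G} (ha : a ∈ A) (ha1 : a ≠ 1) :
    Cfsg.oddCore ↥(centralizer ({a} : Set G)) = ⊥ :=
  h.cores a (h.orderOf_eq ha ha1)

theorem normalizer_le : normalizer ((S : Subgroup G) : Set G) ≤ normalizer (A : Set G) :=
  fun n hn => mem_normalizer_iff.2 fun x => by
    rw [h.mem_iff, h.mem_iff]
    exact and_congr (mem_normalizer_iff.1 hn x) ⟨fun e => by
      rw [show n * x * n⁻¹ * (n * x * n⁻¹) = n * (x * x) * n⁻¹ by group, e, mul_one, mul_inv_cancel],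
      fun e => by
      have := congrArg (fun w => n⁻¹ * w * n) e
      simpa [mul_assoc] using this⟩

theorem conj_mem {n a : G} (hn : n ∈ normalizer ((S : Subgroup G) : Set G)) (ha : a ∈ A) :
    n * a * n⁻¹ ∈ A :=
  (mem_normalizer_iff.1 (h.normalizer_le hn) a).1 ha

section Comp

variable (hd : H88.Walter.ShapeData.{u}) {a : G} {L : Subgroup G} (ha : a ∈ A) (ha1 : a ≠ 1)
  (hL : Cfsg.IsComponentOf L (centralizer ({a} : Set G)))
include hd ha ha1 hL

theorem simple : IsSimpleGroup ↥L ∧ ¬ IsMulCommutative ↥L :=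
  compOf_simple h.cfg.absyl (h.core_bot ha ha1) hL

theorem shape : Shape ↥L := by
  obtain ⟨h1, h2⟩ := h.simple hd ha ha1 hL
  refine h.cfg.small ↥L ?_ h1 h2 (h.cfg.absyl.subgroup L)
  refine (Subgroup.card_le_card_group L).lt_of_ne fun e => ?_
  exact h.cfg.centralizer_ne_top ha1 (eq_top_iff.2 ((L.card_eq_iff_eq_top.1 e) ▸ hL.1))

theorem goodPiece : H88.Walter.GoodPiece ((S : Subgroup G).subgroupOf L) := by
  obtain ⟨h1, h2⟩ := h.simple hd ha ha1 hL
  obtain ⟨P, hP⟩ := compOf_sylow hL S (h.S_le_cent ha)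
  exact hP ▸ hd ↥L h1 h2 (h.cfg.absyl.subgroup L) (h.shape hd ha ha1 hL) P

theorem inf_le : (S : Subgroup G) ⊓ L ≤ A := fun x hx =>
  (h.mem_iff x).2 ⟨hx.1, congrArg Subtype.val
    ((h.goodPiece hd ha ha1 hL).sq ⟨x, hx.2⟩ hx.1)⟩

theorem four : 4 ≤ Nat.card ↥(A ⊓ L) := by
  refine (h.goodPiece hd ha ha1 hL).four.trans (Nat.card_le_card_of_injective
    (fun x => (⟨((x : ↥L) : G), h.inf_le hd ha ha1 hL ⟨x.2, x.1.2⟩, x.1.2⟩ : ↥(A ⊓ L))) ?_)
  exact fun x y e => Subtype.ext (Subtype.ext (congrArg (fun z : ↥(A ⊓ L) => (z : G)) e))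

theorem piece_ne_bot : A ⊓ L ≠ ⊥ := fun e => by
  have := h.four hd ha ha1 hL
  rw [e, Subgroup.card_bot] at this
  omega

theorem self_mem_kp : a ∈ kp A L :=
  ⟨ha, mem_centralizer_iff.2 fun x hx => mem_centralizer_singleton_iff.1 (hL.1 hx)⟩

theorem exists_decomp {s : G} (hs : s ∈ (S : Subgroup G)) :
    ∃ v ∈ A ⊓ L, ∃ q ∈ (S : Subgroup G) ⊓ centralizer (L : Set G), v * q = s := by
  obtain ⟨g, hg, hc⟩ :=
    compOf_inner h.cfg.absyl (h.core_bot ha ha1) hL S (h.S_le_cent ha) hs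
  refine ⟨g, ⟨h.inf_le hd ha ha1 hL hg, hg.2⟩, s * g⁻¹,
    ⟨(S : Subgroup G).mul_mem hs ((S : Subgroup G).inv_mem hg.1), hc⟩, ?_⟩
  rw [(h.comm hs (inv_mem hg.1)).eq, mul_inv_cancel_left]

theorem piece_inf_kp : (A ⊓ L) ⊓ kp A L = ⊥ := by
  refine (eq_bot_iff_forall _).2 fun x hx => ?_
  obtain ⟨h1, h2⟩ := h.simple hd ha ha1 hL
  have hz : (⟨x, hx.1.2⟩ : ↥L) ∈ center ↥L := mem_center_iff.2 fun y =>
    Subtype.ext (mem_centralizer_iff.1 hx.2.2 y y.2)
  rcases (show (center ↥L).Normal from inferInstance).eq_bot_or_eq_top with e | e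
  · rw [e, mem_bot] at hz
    exact congrArg Subtype.val hz
  · exact absurd ⟨⟨fun x y => ((mem_center_iff.1 (e ▸ mem_top x : x ∈ center ↥L)) y).symm⟩⟩ h2

theorem sup_eq : (A ⊓ L) ⊔ kp A L = A := by
  refine le_antisymm (sup_le inf_le_left inf_le_left) fun x hx => ?_
  obtain ⟨v, hv, q, hq, rfl⟩ := h.exists_decomp hd ha ha1 hL (h.le_S hx)
  refine mul_mem_sup hv ⟨?_, hq.2⟩
  have := A.mul_mem (A.inv_mem hv.1) hx
  rwa [inv_mul_cancel_left] at this

theorem card_mul : Nat.card ↥(A ⊓ L) * Nat.card ↥(kp A L) = Nat.card A := by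
  rw [← Nat.card_prod]
  refine Nat.card_eq_of_bijective (fun p : ↥(A ⊓ L) × ↥(kp A L) =>
    (⟨(p.1 : G) * p.2, mul_mem p.1.2.1 p.2.2.1⟩ : ↥A)) ⟨fun p q e => ?_, fun x => ?_⟩
  · refine Subgroup.mul_injective_of_disjoint
      (disjoint_iff.2 (h.piece_inf_kp hd ha ha1 hL)) (congrArg Subtype.val e)
  · obtain ⟨v, hv, q, hq, e⟩ := h.exists_decomp hd ha ha1 hL (h.le_S x.2)
    have hqA : q ∈ A := by
      have := A.mul_mem (A.inv_mem hv.1) x.2
      rwa [← e, inv_mul_cancel_left] at this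
    exact ⟨(⟨v, hv⟩, ⟨q, hqA, hq.2⟩), Subtype.ext e⟩

/-- An element of `L` normalising its Sylow 2-subgroup in `S` normalises `S`. -/
theorem conj_S_mem {y s : G} (hy : y ∈ L)
    (hyP : ∀ x ∈ (S : Subgroup G) ⊓ L, y * x * y⁻¹ ∈ (S : Subgroup G))
    (hs : s ∈ (S : Subgroup G)) : y * s * y⁻¹ ∈ (S : Subgroup G) := by
  obtain ⟨v, hv, q, hq, rfl⟩ := h.exists_decomp hd ha ha1 hL hs
  have e : y * q * y⁻¹ = q := by rw [mem_centralizer_iff.1 hq.2 y hy, mul_inv_cancel_right]
  rw [show y * (v * q) * y⁻¹ = y * v * y⁻¹ * (y * q * y⁻¹) by group, e]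
  exact mul_mem (hyP v ⟨h.le_S hv.1, hv.2⟩) hq.1

/-- An element of `L ∩ N(S)` fixes `C_A(L)` and its powers are transitive on `A ∩ L`. -/
theorem exists_cyc : ∃ y ∈ L, y ∈ normalizer ((S : Subgroup G) : Set G) ∧
    (∀ q ∈ kp A L, y * q * y⁻¹ = q) ∧ (∀ x ∈ A ⊓ L, y * x * y⁻¹ ∈ A ⊓ L) ∧
    ∀ x ∈ A ⊓ L, ∀ z ∈ A ⊓ L, x ≠ 1 → z ≠ 1 → ∃ k : ℕ, y ^ k * x * (y ^ k)⁻¹ = z := by
  obtain ⟨y, hy, hcyc⟩ := (h.goodPiece hd ha ha1 hL).cyc
  have hyS : (y : G) ∈ normalizer ((S : Subgroup G) : Set G) := by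
    rw [mem_normalizer_iff]
    intro s
    refine ⟨h.conj_S_mem hd ha ha1 hL y.2 fun x hx =>
      ((mem_normalizer_iff.1 hy ⟨x, hx.2⟩).1 hx.1 : _), fun hs => ?_⟩
    have h' := h.conj_S_mem hd ha ha1 hL (inv_mem y.2) (fun x hx =>
      ((mem_normalizer_iff.1 (inv_mem hy) ⟨x, hx.2⟩).1 hx.1 : _)) hs
    simpa [mul_assoc] using h'
  refine ⟨y, y.2, hyS, fun q hq => ?_, fun x hx => ?_, fun x hx z hz hx1 hz1 => ?_⟩
  · rw [mem_centralizer_iff.1 hq.2 y y.2, mul_inv_cancel_right]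
  · exact ⟨h.conj_mem hyS hx.1, L.mul_mem (L.mul_mem y.2 hx.2) (L.inv_mem y.2)⟩
  · obtain ⟨k, hk⟩ := hcyc ⟨x, hx.2⟩ (h.le_S hx.1) ⟨z, hz.2⟩ (h.le_S hz.1)
      (fun e => hx1 (congrArg Subtype.val e)) (fun e => hz1 (congrArg Subtype.val e))
    exact ⟨k, by simpa using congrArg Subtype.val hk⟩

omit hd in
theorem conj_component {n : G} :
    Cfsg.IsComponentOf (L.map (MulAut.conj n).toMonoidHom)
      (centralizer ({n * a * n⁻¹} : Set G)) := by
  rw [← centralizer_conj]
  exact Components.componentOf_conj hL n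

end Comp

/-- Some centraliser of an involution of `A` has a component. -/
theorem exists_top (hcomp : HasComp G) : ∃ L, TopComp A L := by
  obtain ⟨t, ht, K, hK⟩ := hcomp
  set C := centralizer ({t} : Set G)
  have hp : IsPGroup 2 ↥(zpowers t) :=
    IsPGroup.of_card (n := 1) (by rw [Nat.card_zpowers, ht, pow_one])
  obtain ⟨g, hg⟩ := H39.exists_conj_le_sylow hp S
  have htS : g * t * g⁻¹ ∈ (S : Subgroup G) := hg t (mem_zpowers t)
  have ht2 : orderOf (g * t * g⁻¹) = 2 := by rw [H39.orderOf_conj, ht]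
  have htA : g * t * g⁻¹ ∈ A :=
    (h.mem_iff _).2 ⟨htS, by rw [← pow_two, ← ht2, pow_orderOf_eq_one]⟩
  let e : ↥C ≃* Bar C := (QuotientGroup.quotientBot (G := ↥C)).symm.trans
    (QuotientGroup.quotientMulEquivOfEq (h.cores t ht).symm)
  have hK' := compOf_of_isComponent (Components.component_map_equiv e.symm hK)
  have hne : g * t * g⁻¹ ≠ 1 := fun he => by rw [he, orderOf_one] at ht2; omega
  let T : Set (Subgroup G) :=
    {L | ∃ a ∈ A, a ≠ 1 ∧ Cfsg.IsComponentOf L (centralizer ({a} : Set G))}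
  have hT : T.Nonempty := ⟨_, g * t * g⁻¹, htA, hne,
    centralizer_conj g t ▸ Components.componentOf_conj hK' g⟩
  obtain ⟨L, hL, hmax⟩ := Set.exists_max_image T (fun L => Nat.card L) (Set.toFinite T) hT
  exact ⟨L, hL, fun b hb hb1 J hJ => hmax J ⟨b, hb, hb1, hJ⟩⟩

section Top

variable (hd : H88.Walter.ShapeData.{u}) {L L' L'' : Subgroup G}
include hd

/-- A component of largest order is a component at every involution centralising it. -/
theorem top_componentOf (hL : TopComp A L) {k : G} (hk : k ∈ kp A L) (hk1 : k ≠ 1) :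
    Cfsg.IsComponentOf L (centralizer ({k} : Set G)) := by
  obtain ⟨⟨a, ha, ha1, hLa⟩, hmax⟩ := hL
  set C := centralizer ({k} : Set G)
  have hLC : L ≤ C := fun x hx =>
    mem_centralizer_singleton_iff.2 (mem_centralizer_iff.1 hk.2 x hx)
  have hO := h.core_bot hk.1 hk1
  have hperf : ⁅L, L⁆ = L := compOf_perfect hLa
  have hLE : L ≤ layerAt C := le_layerAt_of_perfect h.cfg.absyl hO hLC hperf
  obtain ⟨hLs, hLnc⟩ := h.simple hd ha ha1 hLa
  -- a component not centralised by `L`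
  obtain ⟨J, hJ, hJL⟩ : ∃ J, Cfsg.IsComponentOf J C ∧ ⁅L, J⁆ ≠ ⊥ := by
    by_contra hc
    push Not at hc
    have hle : layerAt C ≤ centralizer (L : Set G) := layerAt_le fun J hJ => by
      rw [← commutator_eq_bot_iff_le_centralizer, commutator_comm]
      exact hc J hJ
    have := commutator_eq_bot_iff_le_centralizer.2 (hLE.trans hle)
    rw [hperf] at this
    exact compOf_ne_bot hLa this
  obtain ⟨hJs, hJnc⟩ := compOf_simple h.cfg.absyl hO hJ
  set R := layerAt C ⊓ centralizer (J : Set G)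
  have hJR : J ⊓ R = ⊥ := by
    refine (eq_bot_iff_forall _).2 fun x hx => ?_
    have hz : (⟨x, hx.1⟩ : ↥J) ∈ center ↥J := mem_center_iff.2 fun y =>
      Subtype.ext (mem_centralizer_iff.1 hx.2.2 y y.2)
    rcases (show (center ↥J).Normal from inferInstance).eq_bot_or_eq_top with e | e
    · rw [e, mem_bot] at hz
      exact congrArg Subtype.val hz
    · exact absurd ⟨⟨fun x y => ((mem_center_iff.1 (e ▸ mem_top x : x ∈ center ↥J)) y).symm⟩⟩ hJnc
  have hsplit : ∀ e ∈ layerAt C, ∃ j ∈ J, ∃ r ∈ R, j * r = e := by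
    intro e he
    have hle : layerAt C ≤ J ⊔ R := layerAt_le fun J' hJ' => by
      by_cases e : J' = J
      · exact e ▸ le_sup_left
      · exact le_sup_of_le_right (le_inf (compOf_le_layerAt hJ')
          (commutator_eq_bot_iff_le_centralizer.1 (compOf_commute hJ' hJ e)))
    have hn : J ≤ normalizer (R : Set G) := Components.le_normalizer_of_commutator_eq_bot (by
      rw [commutator_comm]; exact commutator_eq_bot_iff_le_centralizer.2 inf_le_right)
    have := hle he
    rw [← SetLike.mem_coe, coe_mul_of_left_le_normalizer_right _ _ hn] at this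
    obtain ⟨j, hj, r, hr, e⟩ := this
    exact ⟨j, hj, r, hr, e⟩
  have hLR : L ⊓ R = ⊥ := by
    have hN : (R.subgroupOf L).Normal := by
      refine normal_subgroupOf_of_le_normalizer fun l hl => ?_
      have hlE := hLE hl
      have hlJ := layerAt_le_normalizer hJ hlE
      refine mem_normalizer_iff.2 fun x => and_congr ?_ ?_
      · exact ⟨fun hx => (layerAt C).mul_mem ((layerAt C).mul_mem hlE hx) ((layerAt C).inv_mem hlE), fun hx => by
          simpa [mul_assoc] using mul_mem (mul_mem (inv_mem hlE) hx) hlE⟩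
      · constructor
        · intro hx
          refine mem_centralizer_iff.2 fun y hy => ?_
          have := mem_centralizer_iff.1 hx _ ((mem_normalizer_iff''.1 hlJ y).1 hy)
          calc y * (l * x * l⁻¹) = l * ((l⁻¹ * y * l) * x) * l⁻¹ := by group
            _ = l * (x * (l⁻¹ * y * l)) * l⁻¹ := by rw [this]
            _ = l * x * l⁻¹ * y := by group
        · intro hx
          refine mem_centralizer_iff.2 fun y hy => ?_
          have := mem_centralizer_iff.1 hx _ ((mem_normalizer_iff.1 hlJ y).1 hy)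
          calc y * x = l⁻¹ * ((l * y * l⁻¹) * (l * x * l⁻¹)) * l := by group
            _ = l⁻¹ * ((l * x * l⁻¹) * (l * y * l⁻¹)) * l := by rw [this]
            _ = x * y := by group
    rcases hLs.eq_bot_or_eq_top_of_normal _ hN with e | e
    · rw [eq_bot_iff]
      intro x hx
      have : (⟨x, hx.1⟩ : ↥L) ∈ R.subgroupOf L := hx.2
      rw [e, mem_bot] at this
      exact mem_bot.2 (congrArg Subtype.val this)
    · refine absurd ?_ hJL
      exact commutator_eq_bot_iff_le_centralizer.2 ((subgroupOf_eq_top.1 e).trans inf_le_right)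
  -- the projection to `J` is bijective
  choose f hf g hg hfg using fun l : ↥L => hsplit l (hLE l.2)
  have hinj : Function.Injective fun l => (⟨f l, hf l⟩ : ↥J) := by
    intro l l' e
    have e' : f l = f l' := congrArg Subtype.val e
    have hmem : (l : G)⁻¹ * l' ∈ L ⊓ R := by
      refine ⟨L.mul_mem (L.inv_mem l.2) l'.2, ?_⟩
      rw [← hfg l, ← hfg l', e', mul_inv_rev, mul_assoc, inv_mul_cancel_left]
      exact R.mul_mem (R.inv_mem (hg l)) (hg l')
    rw [hLR, mem_bot, inv_mul_eq_one] at hmem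
    exact Subtype.ext hmem
  have hsurj : Function.Surjective fun l => (⟨f l, hf l⟩ : ↥J) :=
    (Nat.bijective_iff_injective_and_card _).2
      ⟨hinj, le_antisymm (Nat.card_le_card_of_injective _ hinj) (hmax k hk.1 hk1 J hJ)⟩ |>.2
  -- `a` centralises `J`
  have haC : a ∈ C := mem_centralizer_singleton_iff.2 (h.comm (h.le_S ha) (h.le_S hk.1)).eq
  have haJ := sylow_le_normalizer h.cfg.absyl hO hJ S (h.S_le_cent hk.1) (h.le_S ha)
  have hJa : J ≤ centralizer ({a} : Set G) := by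
    intro j hj
    obtain ⟨l, hl⟩ := hsurj ⟨j, hj⟩
    have hlj : f l = j := congrArg Subtype.val hl
    have hal : a * (l : G) * a⁻¹ = l := by
      rw [← mem_centralizer_singleton_iff.1 (hLa.1 l.2), mul_inv_cancel_right]
    have hgR : a * g l * a⁻¹ ∈ R := by
      refine ⟨?_, mem_centralizer_iff.2 fun y hy => ?_⟩
      · refine mem_map.2 ⟨⟨a, haC⟩ * ⟨g l, map_subtype_le _ (hg l).1⟩ * ⟨a, haC⟩⁻¹, ?_, rfl⟩
        refine Components.layer_normal.conj_mem _ ?_ _
        obtain ⟨z, hz, ez⟩ := (hg l).1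
        rwa [show (⟨g l, map_subtype_le _ (hg l).1⟩ : ↥C) = z from Subtype.ext ez.symm]
      · have := mem_centralizer_iff.1 (hg l).2 _ ((mem_normalizer_iff''.1 haJ y).1 hy)
        calc y * (a * g l * a⁻¹) = a * ((a⁻¹ * y * a) * g l) * a⁻¹ := by group
          _ = a * (g l * (a⁻¹ * y * a)) * a⁻¹ := by rw [this]
          _ = a * g l * a⁻¹ * y := by group
    have hmem : j⁻¹ * (a * j * a⁻¹) ∈ J ⊓ R := by
      refine ⟨J.mul_mem (J.inv_mem hj) ((mem_normalizer_iff.1 haJ j).1 hj), ?_⟩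
      rw [← hlj, show (f l)⁻¹ * (a * f l * a⁻¹) =
        (f l)⁻¹ * (a * (f l * g l) * a⁻¹) * (a * g l * a⁻¹)⁻¹ by group, hfg l, hal, ← hfg l,
        inv_mul_cancel_left]
      exact R.mul_mem (hg l) (R.inv_mem hgR)
    rw [hJR, mem_bot, inv_mul_eq_one] at hmem
    exact mem_centralizer_singleton_iff.2 (mul_inv_eq_iff_eq_mul.1 hmem.symm).symm
  -- so `J` normalises `L`
  have hJN : J ≤ normalizer (L : Set G) :=
    (le_layerAt_of_perfect h.cfg.absyl (h.core_bot ha ha1) hJa (compOf_perfect hJ)).trans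
      (layerAt_le_normalizer hLa)
  have hLN : L ≤ normalizer (J : Set G) := hLE.trans (layerAt_le_normalizer hJ)
  have hle : ⁅L, J⁆ ≤ L ⊓ J := le_inf
    (by rw [commutator_comm]; exact Components.commutator_le_of_le_normalizer hJN)
    (Components.commutator_le_of_le_normalizer hLN)
  have hN : (J.subgroupOf L).Normal := normal_subgroupOf_of_le_normalizer hLN
  rcases hLs.eq_bot_or_eq_top_of_normal _ hN with e | e
  · refine absurd (le_bot_iff.1 (hle.trans ?_)) hJL
    intro x hx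
    have : (⟨x, hx.1⟩ : ↥L) ∈ J.subgroupOf L := hx.2
    rw [e, mem_bot] at this
    exact mem_bot.2 (congrArg Subtype.val this)
  · rwa [eq_of_le_of_card_ge (subgroupOf_eq_top.1 e) (hmax k hk.1 hk1 J hJ)]

/-- Two largest components with a common centralising involution are equal or commute. -/
theorem rel_of_common (hL : TopComp A L) (hL' : TopComp A L') {k : G} (hk : k ∈ kp A L)
    (hk' : k ∈ kp A L') (hk1 : k ≠ 1) : Rel L L' :=
  (em (L = L')).imp id fun e =>
    compOf_commute (h.top_componentOf hd hL hk hk1) (h.top_componentOf hd hL' hk' hk1) e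

omit hd in
theorem piece_le_kp (hc : ⁅L, L'⁆ = ⊥) : A ⊓ L' ≤ kp A L :=
  fun _ hx => ⟨hx.1, (commutator_eq_bot_iff_le_centralizer.1 (by rwa [commutator_comm])) hx.2⟩

theorem rel_trans (hL : TopComp A L) (hL' : TopComp A L') (hL'' : TopComp A L'')
    (h1 : Rel L L') (h2 : Rel L' L'') : Rel L L'' := by
  rcases h1 with rfl | h1
  · exact h2
  rcases h2 with rfl | h2
  · exact Or.inr h1
  obtain ⟨a, ha, ha1, hLa⟩ := hL'.1
  obtain ⟨x, hx, hx1⟩ := (A ⊓ L').bot_or_exists_ne_one.resolve_left (h.piece_ne_bot hd ha ha1 hLa)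
  exact h.rel_of_common hd hL hL'' (h.piece_le_kp h1 hx)
    (h.piece_le_kp (by rwa [commutator_comm]) hx) hx1

omit hd in
theorem top_conj (hL : TopComp A L) {n : G} (hn : n ∈ normalizer ((S : Subgroup G) : Set G)) :
    TopComp A (L.map (MulAut.conj n).toMonoidHom) := by
  obtain ⟨⟨a, ha, ha1, hLa⟩, hmax⟩ := hL
  refine ⟨⟨n * a * n⁻¹, h.conj_mem hn ha, fun e => ha1 (conj_eq_one_iff.1 e),
    centralizer_conj n a ▸ Components.componentOf_conj hLa n⟩, fun b hb hb1 J hJ => ?_⟩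
  rw [card_map_of_injective (MulAut.conj n).injective]
  exact hmax b hb hb1 J hJ

end Top

end CCtx

end Cfsg.Agent.H10.Walter
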